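import Groth.Agent.TameLib.Value

/-! The laws of the tame symbol. -/

set_option linter.unusedSectionVars false
set_option linter.style.haveILetI false
set_option linter.unusedSimpArgs false

namespace Groth.Agent.TameLib

open IsLocalRing

universe u

section Local

variable {R : Type u} [CommRing R] [IsLocalRing R] (π : R)

theorem sval_mul_left (u u' w : Rˣ) (e e' f : ℕ) :
    sval π (u * u') w (e + e') f = sval π u w e f * sval π u' w e' f := by
  unfold sval
  rw [← mul_pow]
  congr 1
  rw [Units.val_mul, map_mul, mul_pow, add_mul, pow_add, pow_add, mul_inv]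
  ring

theorem sval_mul_right (w u u' : Rˣ) (f e e' : ℕ) :
    sval π w (u * u') f (e + e') = sval π w u f e * sval π w u' f e' := by
  unfold sval
  rw [← mul_pow]
  congr 1
  rw [Units.val_mul, map_mul, mul_pow, mul_add, pow_add, pow_add, mul_inv]
  ring

theorem sval_self (u : Rˣ) (e : ℕ) : sval π u u e e = (-1) ^ (e * (Ring.ord R π).toNat) := by
  unfold sval
  rw [mul_assoc, mul_inv_cancel₀ (pow_ne_zero _ (residue_unit_ne_zero u)), mul_one, pow_mul _ e (Ring.ord R π).toNat]
  congr 1
  rcases Nat.even_or_odd e with he | he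
  · rw [(he.mul_right e).neg_one_pow, he.neg_one_pow]
  · rw [(he.mul he).neg_one_pow, he.neg_one_pow]

theorem sval_unit_left (c w : Rˣ) (f : ℕ) :
    sval π c w 0 f = residue R (c : R) ^ (f * (Ring.ord R π).toNat) := by
  unfold sval
  simp [pow_mul]

theorem residue_rel (hπ : π ∈ nonZeroDivisors R) (hnu : ¬ IsUnit π) {x y z : Rˣ} {e d : ℕ} (hd : e < d)
    (h : (x : R) * π ^ e = (y : R) * π ^ e + (z : R) * π ^ d) : residue R (x : R) = residue R (y : R) := by
  obtain ⟨k, rfl⟩ := Nat.exists_eq_add_of_le hd.le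
  have h' : (x : R) * π ^ e = ((y : R) + (z : R) * π ^ k) * π ^ e := by rw [h, pow_add]; ring
  rw [(mul_cancel_right_mem_nonZeroDivisors (pow_mem hπ e)).mp h', map_add, map_mul, map_pow,
    (residue_eq_zero_iff π).mpr ((mem_maximalIdeal π).mpr hnu), zero_pow (by omega), mul_zero, add_zero]

theorem steinberg [IsNoetherianRing R] [Ring.KrullDimLE 1 R] (hπ : π ∈ nonZeroDivisors R) (u v w : Rˣ) (a b c : ℕ)
    (h : (w : R) * π ^ c = (v : R) * π ^ b - (u : R) * π ^ a) :
    sval π u w a c * sval π v v b b = sval π v w b c * sval π u v a b := by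
  by_cases hu : IsUnit π
  · simp [sval_of_trivial _ _ (Or.inl hu)]
  have hu0 := residue_unit_ne_zero u
  have hv0 := residue_unit_ne_zero v
  have hw0 := residue_unit_ne_zero w
  have hmin : (a = b ∧ a = c) ∨ (a = b ∧ a < c) ∨ (a = c ∧ a < b) ∨ (b = c ∧ b < a) := by
    have key : ∀ {x y z : Rˣ} {i j k : ℕ}, (x : R) * π ^ i = (y : R) * π ^ j + (z : R) * π ^ k →
        i < j → i < k → False := by
      intro x y z i j k h hj hk
      obtain ⟨j', rfl⟩ := Nat.exists_eq_add_of_le hj.le
      obtain ⟨k', rfl⟩ := Nat.exists_eq_add_of_le hk.le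
      have h' : (x : R) * π ^ i = ((y : R) * π ^ j' + (z : R) * π ^ k') * π ^ i := by rw [h, pow_add, pow_add]; ring
      have h'' := congrArg (residue R) ((mul_cancel_right_mem_nonZeroDivisors (pow_mem hπ i)).mp h')
      rw [map_add, map_mul, map_mul, map_pow, map_pow, (residue_eq_zero_iff π).mpr ((mem_maximalIdeal π).mpr hu),
        zero_pow (by omega), zero_pow (by omega), mul_zero, mul_zero, add_zero] at h''
      exact residue_unit_ne_zero x h''
    by_contra hne
    rcases lt_trichotomy a b with h1 | h1 | h1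
    · rcases lt_trichotomy a c with h2 | h2 | h2
      · exact key (x := u) (y := v) (z := -w) (by rw [Units.val_neg]; linear_combination h) h1 h2
      · exact hne (Or.inr (Or.inr (Or.inl ⟨h2, h1⟩)))
      · exact key (x := w) (y := v) (z := -u) (by rw [Units.val_neg]; linear_combination h) (h2.trans h1) h2
    · rcases lt_trichotomy a c with h2 | h2 | h2
      · exact hne (Or.inr (Or.inl ⟨h1, h2⟩))
      · exact hne (Or.inl ⟨h1, h2⟩)
      · exact key (x := w) (y := v) (z := -u) (by rw [Units.val_neg]; linear_combination h) (h1 ▸ h2) h2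
    · rcases lt_trichotomy b c with h2 | h2 | h2
      · exact key (x := v) (y := u) (z := w) (by linear_combination -h) h1 h2
      · exact hne (Or.inr (Or.inr (Or.inr ⟨h2, h1⟩)))
      · exact key (x := w) (y := v) (z := -u) (by rw [Units.val_neg]; linear_combination h) h2 (h2.trans h1)
  have hsq : ∀ n : ℕ, ((-1 : ResidueField R) ^ n) ^ 2 = 1 := fun n => by rw [← pow_mul, mul_comm, pow_mul]; simp
  rw [sval_self, pow_mul]
  unfold sval
  rw [← mul_pow, ← mul_pow]
  congr 1
  rcases hmin with ⟨rfl, rfl⟩ | ⟨rfl, h1⟩ | ⟨rfl, h1⟩ | ⟨rfl, h1⟩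
  · field_simp
    rcases Nat.even_or_odd a with he | he
    · simp [he.neg_one_pow, (he.mul_right a).neg_one_pow, mul_comm, mul_left_comm]
    · simp [he.neg_one_pow, (he.mul he).neg_one_pow, mul_comm, mul_left_comm]
  · have e1 : residue R (v : R) = residue R (u : R) := residue_rel π hπ hu h1 (z := w) (by linear_combination -h)
    rw [e1]
    field_simp
    rcases Nat.even_or_odd a with he | he
    · simp [he.neg_one_pow, (he.mul_right a).neg_one_pow, mul_comm, mul_left_comm]
    · simp [he.neg_one_pow, (he.mul he).neg_one_pow, mul_comm, mul_left_comm]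
  · have e1 : residue R (w : R) = -residue R (u : R) := by
      rw [← map_neg, ← Units.val_neg]
      exact residue_rel π hπ hu h1 (z := v) (by rw [Units.val_neg]; linear_combination h)
    rw [e1, neg_pow (residue R (u : R)) a, neg_pow (residue R (u : R)) b, mul_comm b a]
    have := pow_ne_zero a (neg_ne_zero.mpr (one_ne_zero (α := ResidueField R)))
    have := pow_ne_zero b (neg_ne_zero.mpr (one_ne_zero (α := ResidueField R)))
    field_simp
    rcases Nat.even_or_odd a with he | he
    · simp [he.neg_one_pow, (he.mul_right a).neg_one_pow, (he.mul_right b).neg_one_pow, ← pow_mul, ← mul_pow,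
        ← pow_add, mul_comm, mul_left_comm]
    · rcases Nat.even_or_odd b with hb | hb
      · simp [he.neg_one_pow, hb.neg_one_pow, (he.mul he).neg_one_pow, (hb.mul_left a).neg_one_pow, mul_comm,
          mul_left_comm]
      · simp [he.neg_one_pow, hb.neg_one_pow, (he.mul he).neg_one_pow, (he.mul hb).neg_one_pow, mul_comm,
          mul_left_comm]
  · have e1 : residue R (w : R) = residue R (v : R) :=
      residue_rel π hπ hu h1 (z := -u) (by rw [Units.val_neg]; linear_combination h)
    rw [e1]
    field_simp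
    rcases Nat.even_or_odd b with he | he
    · simp [he.neg_one_pow, (he.mul_right b).neg_one_pow, mul_comm, mul_left_comm]
    · simp [he.neg_one_pow, (he.mul he).neg_one_pow, mul_comm, mul_left_comm]

end Local

variable {A : Type u} [CommRing A] [IsLocalRing A] [IsNoetherianRing A] [Ring.KrullDimLE 1 A]

theorem nrm_ne_zero {B : Type u} [CommRing B] [Algebra A B] [Module.Finite A B] (q : MaximalSpectrum B)
    {x : ResidueField (Localization.AtPrime q.asIdeal)} (hx : x ≠ 0) : nrm A q x ≠ 0 := by
  haveI := isLocalHom_atPrime (A := A) q.asIdeal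
  haveI := finite_residueField (A := A) q
  exact Algebra.norm_ne_zero_iff.mpr hx

theorem nrm_residue {B : Type u} [CommRing B] [Algebra A B] [Module.Finite A B] (q : MaximalSpectrum B) (c : A) :
    nrm A q (residue _ (algebraMap A (Localization.AtPrime q.asIdeal) c)) = residue A c ^ deg A q := by
  haveI := isLocalHom_atPrime (A := A) q.asIdeal
  haveI := finite_residueField (A := A) q
  show Algebra.norm (ResidueField A)
    (algebraMap (ResidueField A) (ResidueField (Localization.AtPrime q.asIdeal)) (residue A c)) = _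
  rw [Algebra.norm_algebraMap]
  rfl

/-- Evaluation of the symbols of a family with common parameters. -/
theorem exists_eval {r : ℕ} (a : Fin r → A) (ha : ∀ i, a i ∈ nonZeroDivisors A) :
    ∃ (B : Type u) (_ : CommRing B) (_ : Algebra A B) (_ : Module.Finite A B) (_ : Fintype (MaximalSpectrum B))
      (π : ∀ q : MaximalSpectrum B, Localization.AtPrime q.asIdeal)
      (u : ∀ q : MaximalSpectrum B, Fin r → (Localization.AtPrime q.asIdeal)ˣ) (e : MaximalSpectrum B → Fin r → ℕ),
      Good A B ∧ (∀ q, π q ∈ nonZeroDivisors (Localization.AtPrime q.asIdeal)) ∧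
      (∀ q i, algebraMap A (Localization.AtPrime q.asIdeal) (a i) = (u q i : Localization.AtPrime q.asIdeal) * π q ^ e q i) ∧
      (∀ (x y : A), x ∈ nonZeroDivisors A → y ∈ nonZeroDivisors A →
        ∀ (u₁ u₂ : ∀ q : MaximalSpectrum B, (Localization.AtPrime q.asIdeal)ˣ) (e₁ e₂ : MaximalSpectrum B → ℕ),
        (∀ q, algebraMap A (Localization.AtPrime q.asIdeal) x = (u₁ q : Localization.AtPrime q.asIdeal) * π q ^ e₁ q) →
        (∀ q, algebraMap A (Localization.AtPrime q.asIdeal) y = (u₂ q : Localization.AtPrime q.asIdeal) * π q ^ e₂ q) →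
        CycAlg.tameSymbol A x y = ∏ q, nrm A q (sval (π q) (u₁ q) (u₂ q) (e₁ q) (e₂ q))) := by
  obtain ⟨B, i1, i2, hB, h⟩ := exists_factorisations a ha
  have := hB.finite
  have := finite_maximalSpectrum A B
  choose π hπ hf using h
  choose u e he using hf
  letI := Fintype.ofFinite (MaximalSpectrum B)
  refine ⟨B, i1, i2, hB.finite, inferInstance, π, u, e, hB, hπ, he, fun x y hx hy u₁ u₂ e₁ e₂ h₁ h₂ => ?_⟩
  rw [← finprod_eq_prod_of_fintype]
  exact tameSymbol_eq hx hy hB.fin ⟨_, fun q => ⟨π q, _, _, _, _, hπ q, h₁ q, h₂ q, rfl⟩, rfl⟩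

theorem sum_eq_length {B : Type u} [CommRing B] [Algebra A B] [Module.Finite A B] [Fintype (MaximalSpectrum B)]
    (hB : Good A B) {b : A} (hb : b ∈ nonZeroDivisors A) (π : ∀ q : MaximalSpectrum B, Localization.AtPrime q.asIdeal)
    (hπ : ∀ q, π q ∈ nonZeroDivisors (Localization.AtPrime q.asIdeal))
    (u : ∀ q : MaximalSpectrum B, (Localization.AtPrime q.asIdeal)ˣ) (e : MaximalSpectrum B → ℕ)
    (h : ∀ q, algebraMap A (Localization.AtPrime q.asIdeal) b = (u q : Localization.AtPrime q.asIdeal) * π q ^ e q) :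
    ∑ q, deg A q * (e q * (Ring.ord (Localization.AtPrime q.asIdeal) (π q)).toNat) =
      (Module.length A (A ⧸ Ideal.span {b})).toNat := by
  obtain ⟨-, -, n, hn⟩ := hB.fin
  have hbB := hB.reg b hb
  have e1 := wt_map (A := A) (B := A) (C := B) (Algebra.ofId A B) hB.fin.1 (n := n) (fun r hr c => hn r hr c) hb hbB
  rw [show (Algebra.ofId A B) b = algebraMap A B b from rfl, wt_eq_sum hbB] at e1
  have : IsNoetherianRing B := hB.isNoetherian
  have : Ring.KrullDimLE 1 B := hB.dim
  refine Nat.cast_injective (R := ℕ∞) ?_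
  rw [show Module.length A (A ⧸ Ideal.span {b}) = wt A b from rfl,
    ENat.natCast_toNat (wt_ne_top (A := A) hb), ← e1, Nat.cast_sum]
  refine Finset.sum_congr rfl fun q _ => ?_
  have : IsNoetherianRing (Localization.AtPrime q.asIdeal) :=
    IsLocalization.isNoetherianRing q.asIdeal.primeCompl _ inferInstance
  have := krullDimLE_atPrime q.asIdeal
  rw [← IsScalarTower.algebraMap_apply, h q, Ring.ord_mul_of_isUnit_left (u q).isUnit, Ring.ord_pow (hπ q),
    nsmul_eq_mul, Nat.cast_mul, Nat.cast_mul, ENat.natCast_toNat (Ring.ord_ne_top (hπ q))]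

theorem laws : (∀ a b : A, a ∈ nonZeroDivisors A → b ∈ nonZeroDivisors A → CycAlg.tameSymbol A a b ≠ 0) ∧
    (∀ a a' b : A, a ∈ nonZeroDivisors A → a' ∈ nonZeroDivisors A → b ∈ nonZeroDivisors A →
      CycAlg.tameSymbol A (a * a') b = CycAlg.tameSymbol A a b * CycAlg.tameSymbol A a' b ∧
      CycAlg.tameSymbol A b (a * a') = CycAlg.tameSymbol A b a * CycAlg.tameSymbol A b a') ∧
    (∀ b : A, b ∈ nonZeroDivisors A →
      CycAlg.tameSymbol A b b = (-1) ^ (Module.length A (A ⧸ Ideal.span {b})).toNat) ∧
    (∀ (c : Aˣ) (b : A), b ∈ nonZeroDivisors A →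
      CycAlg.tameSymbol A (c : A) b = residue A (c : A) ^ (Module.length A (A ⧸ Ideal.span {b})).toNat) ∧
    (∀ a b : A, a ∈ nonZeroDivisors A → b ∈ nonZeroDivisors A → b - a ∈ nonZeroDivisors A →
      CycAlg.tameSymbol A a (b - a) * CycAlg.tameSymbol A b b =
        CycAlg.tameSymbol A b (b - a) * CycAlg.tameSymbol A a b) := by
  refine ⟨fun a b ha hb => ?_, fun a a' b ha ha' hb => ?_, fun b hb => ?_, fun c b hb => ?_,
    fun a b ha hb hc => ?_⟩
  · obtain ⟨B, _, _, _, _, π, u, e, -, -, hf, hev⟩ := exists_eval ![a, b] (fun i => by fin_cases i <;> assumption)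
    rw [hev a b ha hb _ _ _ _ (fun q => hf q 0) (fun q => hf q 1)]
    exact Finset.prod_ne_zero_iff.mpr fun q _ => nrm_ne_zero q (sval_ne_zero _ _ _ _ _)
  · obtain ⟨B, _, _, _, _, π, u, e, -, -, hf, hev⟩ :=
      exists_eval ![a, a', b] (fun i => by fin_cases i <;> assumption)
    have hprod : ∀ q : MaximalSpectrum B, algebraMap A (Localization.AtPrime q.asIdeal) (a * a') =
        ((u q 0 * u q 1 : (Localization.AtPrime q.asIdeal)ˣ) : Localization.AtPrime q.asIdeal) *
          π q ^ (e q 0 + e q 1) := fun q => by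
      rw [map_mul, show algebraMap A (Localization.AtPrime q.asIdeal) a = _ from hf q 0,
        show algebraMap A (Localization.AtPrime q.asIdeal) a' = _ from hf q 1, Units.val_mul, pow_add]
      ring
    constructor
    · rw [hev a b ha hb _ _ _ _ (fun q => hf q 0) (fun q => hf q 2),
        hev a' b ha' hb _ _ _ _ (fun q => hf q 1) (fun q => hf q 2),
        hev _ b (mul_mem ha ha') hb _ _ _ _ hprod (fun q => hf q 2), ← Finset.prod_mul_distrib]
      exact Finset.prod_congr rfl fun q _ => by rw [sval_mul_left, map_mul]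
    · rw [hev b a hb ha _ _ _ _ (fun q => hf q 2) (fun q => hf q 0),
        hev b a' hb ha' _ _ _ _ (fun q => hf q 2) (fun q => hf q 1),
        hev b _ hb (mul_mem ha ha') _ _ _ _ (fun q => hf q 2) hprod, ← Finset.prod_mul_distrib]
      exact Finset.prod_congr rfl fun q _ => by rw [sval_mul_right, map_mul]
  · obtain ⟨B, _, _, _, _, π, u, e, hB, hπ, hf, hev⟩ := exists_eval ![b] (fun i => by fin_cases i; assumption)
    rw [hev b b hb hb _ _ _ _ (fun q => hf q 0) (fun q => hf q 0),
      ← sum_eq_length hB hb π hπ _ _ (fun q => hf q 0), ← Finset.prod_pow_eq_pow_sum]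
    refine Finset.prod_congr rfl fun q _ => ?_
    rw [sval_self, map_pow, pow_mul (-1 : ResidueField A) (deg A q)]
    congr 1
    have h := nrm_residue (A := A) q (-1)
    rw [show algebraMap A (Localization.AtPrime q.asIdeal) (-1) = -1 by simp] at h
    simpa using h
  · obtain ⟨B, _, _, _, _, π, u, e, hB, hπ, hf, hev⟩ := exists_eval ![b] (fun i => by fin_cases i; assumption)
    rw [hev c b c.isUnit.mem_nonZeroDivisors hb (fun q => Units.map (algebraMap A _).toMonoidHom c) _ (fun _ => 0) _
        (fun q => by rw [pow_zero, mul_one]; rfl) (fun q => hf q 0),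
      ← sum_eq_length hB hb π hπ _ _ (fun q => hf q 0), ← Finset.prod_pow_eq_pow_sum]
    refine Finset.prod_congr rfl fun q _ => ?_
    rw [sval_unit_left, map_pow, pow_mul (residue A (c : A)) (deg A q)]
    congr 1
    exact nrm_residue (A := A) q (c : A)
  · obtain ⟨B, _, _, _, _, π, u, e, hB, hπ, hf, hev⟩ :=
      exists_eval ![a, b, b - a] (fun i => by fin_cases i <;> assumption)
    have : IsNoetherianRing B := hB.isNoetherian
    have : Ring.KrullDimLE 1 B := hB.dim
    rw [hev a _ ha hc _ _ _ _ (fun q => hf q 0) (fun q => hf q 2),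
      hev b b hb hb _ _ _ _ (fun q => hf q 1) (fun q => hf q 1),
      hev b _ hb hc _ _ _ _ (fun q => hf q 1) (fun q => hf q 2),
      hev a b ha hb _ _ _ _ (fun q => hf q 0) (fun q => hf q 1), ← Finset.prod_mul_distrib, ← Finset.prod_mul_distrib]
    refine Finset.prod_congr rfl fun q _ => ?_
    have : IsNoetherianRing (Localization.AtPrime q.asIdeal) :=
      IsLocalization.isNoetherianRing q.asIdeal.primeCompl _ inferInstance
    have := krullDimLE_atPrime q.asIdeal
    rw [← map_mul, ← map_mul, steinberg (π q) (hπ q) (u q 0) (u q 1) (u q 2) (e q 0) (e q 1) (e q 2)]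
    rw [← hf q 2, ← hf q 1, ← hf q 0]
    simp

end Groth.Agent.TameLib
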