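import Groth.Agent.TameLib.Laws
import Mathlib.RingTheory.Localization.Finiteness
import Mathlib.RingTheory.Localization.LocalizationLocalization

/-! The tame symbol and a finite birational extension. -/

set_option linter.unusedSectionVars false
set_option linter.style.haveILetI false
set_option linter.unusedSimpArgs false

namespace Groth.Agent.TameLib

open IsLocalRing

universe u

variable {A : Type u} [CommRing A] [IsLocalRing A] [IsNoetherianRing A] [Ring.KrullDimLE 1 A]

section Iso

variable {R R' : Type u} [CommRing R] [CommRing R'] [IsLocalRing R] [IsLocalRing R'] (e : R ≃+* R')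

theorem ord_equiv (x : R) : Ring.ord R' (e x) = Ring.ord R x := by
  let _ : Algebra R R' := (e : R →+* R').toAlgebra
  have hmap : Ideal.span {e x} = (Ideal.span {x}).map (e : R →+* R') := by simp [Ideal.map_span]
  let f := Ideal.quotientEquiv (Ideal.span {x}) (Ideal.span {e x}) e hmap
  let l : (R ⧸ Ideal.span {x}) ≃ₗ[R] (R' ⧸ Ideal.span {e x}) :=
    { f with
      map_smul' := fun c m => by
        obtain ⟨m, rfl⟩ := Ideal.Quotient.mk_surjective m
        show f (Ideal.Quotient.mk _ (c * m)) = Ideal.Quotient.mk _ (e c) * f (Ideal.Quotient.mk _ m)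
        rw [map_mul, map_mul]
        rfl }
  rw [Ring.ord, Ring.ord, ← Module.length_eq_of_surjective (S := R) (R := R') (M := R' ⧸ Ideal.span {e x})
    e.surjective, l.length_eq]

theorem sval_equiv (π : R) (u₁ u₂ : Rˣ) (e₁ e₂ : ℕ) :
    ResidueField.map (e : R →+* R') (sval π u₁ u₂ e₁ e₂) = sval (e π) (Units.map (e : R →+* R') u₁) (Units.map (e : R →+* R') u₂) e₁ e₂ := by
  simp only [sval, map_pow, map_mul, map_inv₀, map_neg, map_one, ord_equiv]
  rfl

theorem IsSym.equiv {a b : R} {x : ResidueField R} (h : IsSym a b x) :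
    IsSym (e a) (e b) (ResidueField.map (e : R →+* R') x) := by
  obtain ⟨π, u₁, u₂, e₁, e₂, hπ, rfl, rfl, rfl⟩ := h
  refine ⟨e π, _, _, e₁, e₂, ?_, ?_, ?_, sval_equiv e π u₁ u₂ e₁ e₂⟩
  · exact mem_nonZeroDivisors_iff_right.mpr fun z hz => by
      obtain ⟨w, rfl⟩ := e.surjective z
      rw [← map_mul, map_eq_zero_iff e e.injective] at hz
      rw [(mul_right_mem_nonZeroDivisors_eq_zero_iff hπ).mp hz, map_zero]
  · rw [map_mul, map_pow]; rfl
  · rw [map_mul, map_pow]; rfl

end Iso

theorem exists_regular_mem (h : maximalIdeal A ∉ associatedPrimes A A) :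
    ∃ g ∈ maximalIdeal A, g ∈ nonZeroDivisors A := by
  by_contra hne
  push Not at hne
  have hfin := associatedPrimes.finite A A
  have hsub : (maximalIdeal A : Set A) ⊆ ⋃ p ∈ (hfin.toFinset : Set (Ideal A)), (p : Set A) := by
    rw [Set.Finite.coe_toFinset, biUnion_associatedPrimes_eq_compl_nonZeroDivisors]
    exact hne
  obtain ⟨p, hp, hle⟩ := (Ideal.subset_union_prime (f := fun p : Ideal A => p) ⊤ ⊤
    (fun p hp _ _ => IsAssociatedPrime.isPrime (hfin.mem_toFinset.mp hp))).mp hsub
  have hp' := hfin.mem_toFinset.mp hp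
  exact h (((maximalIdeal.isMaximal A).eq_of_le hp'.isPrime.ne_top hle) ▸ hp')

theorem norm_transport {k L M M' : Type u} [Field k] [Field L] [Field M] [Field M'] [Algebra k L] [Algebra L M]
    [Algebra k M'] [Module.Finite k L] [Module.Finite L M] (σ : M' ≃+* M)
    (h : ∀ c, σ (algebraMap k M' c) = algebraMap L M (algebraMap k L c)) (x : M') :
    Algebra.norm k (Algebra.norm L (σ x)) = Algebra.norm k x := by
  let _ : Algebra k M := ((algebraMap L M).comp (algebraMap k L)).toAlgebra
  haveI : IsScalarTower k L M := IsScalarTower.of_algebraMap_eq fun _ => rfl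
  rw [Algebra.norm_norm]
  exact Algebra.norm_eq_of_algEquiv ({ σ with commutes' := h } : M' ≃ₐ[k] M) x

variable {B : Type u} [CommRing B] [Algebra A B] [Module.Finite A B] {D : Type u} [CommRing D] [Algebra A D]
  [Module.Finite A D]

set_option maxHeartbeats 1000000 in
theorem fibre_value {n : ℕ} (φ : B →ₐ[A] D) (hφ : Function.Injective φ)
    (hn : ∀ r ∈ maximalIdeal A ^ n, ∀ c : D, r • c ∈ LinearMap.range φ.toLinearMap)
    {g : A} (hgm : g ∈ maximalIdeal A) (hgB : algebraMap A B g ∈ nonZeroDivisors B) {a b : A}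
    (haB : algebraMap A B a ∈ nonZeroDivisors B) (hbB : algebraMap A B b ∈ nonZeroDivisors B)
    (x : ∀ r : MaximalSpectrum D, ResidueField (Localization.AtPrime r.asIdeal))
    (hx : ∀ r : MaximalSpectrum D, IsSym (algebraMap A (Localization.AtPrime r.asIdeal) a)
      (algebraMap A (Localization.AtPrime r.asIdeal) b) (x r))
    [Fintype (MaximalSpectrum D)] [DecidableEq (MaximalSpectrum B)] (q : MaximalSpectrum B) :
    ∏ r ∈ Finset.univ.filter (fun r => down' φ r = q), nrm A r (x r) =
      nrm A q (CycAlg.tameSymbol (Localization.AtPrime q.asIdeal) (algebraMap A _ a) (algebraMap A _ b)) := by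
  let iBD : Algebra B D := φ.toRingHom.toAlgebra
  haveI : IsScalarTower A B D := IsScalarTower.of_algebraMap_eq fun r => (φ.commutes r).symm
  haveI : Module.Finite B D := Module.Finite.of_restrictScalars_finite A B D
  haveI : IsNoetherianRing B := IsNoetherianRing.of_finite A B
  haveI : Ring.KrullDimLE 1 B := krullDimLE_one (A := A)
  let Bq := Localization.AtPrime q.asIdeal
  let Dq := Localization (Algebra.algebraMapSubmonoid D q.asIdeal.primeCompl)
  haveI : IsNoetherianRing Bq := IsLocalization.isNoetherianRing q.asIdeal.primeCompl _ inferInstance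
  haveI : Ring.KrullDimLE 1 Bq := krullDimLE_atPrime q.asIdeal
  haveI : IsScalarTower A Bq Dq := IsScalarTower.of_algebraMap_eq fun r => by
    rw [IsScalarTower.algebraMap_apply A D Dq, IsScalarTower.algebraMap_apply A B Bq,
      IsScalarTower.algebraMap_apply A B D, ← IsScalarTower.algebraMap_apply B D Dq,
      ← IsScalarTower.algebraMap_apply B Bq Dq]
  haveI hfin : Module.Finite Bq Dq := Module.Finite.of_isLocalization B D q.asIdeal.primeCompl
  haveI := isLocalHom_atPrime (A := A) q.asIdeal
  -- the extension of the local ring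
  have hinj : Function.Injective (algebraMap Bq Dq) :=
    localizationAlgebra_injective (M := q.asIdeal.primeCompl) (S := D) Bq Dq hφ
  have hker : ∃ k, ∀ r ∈ maximalIdeal Bq ^ k, ∀ c : Dq, r • c ∈ (algebraMap Bq Dq).range := by
    obtain ⟨k, hk⟩ := exists_pow_maximalIdeal_le (R := Bq) (z := algebraMap A Bq g ^ n) (pow_mem (by
      rw [IsScalarTower.algebraMap_apply A B Bq]
      exact IsLocalization.map_nonZeroDivisors_le q.asIdeal.primeCompl Bq ⟨_, hgB, rfl⟩) n)
    refine ⟨k, fun r hr c => ?_⟩
    obtain ⟨w, rfl⟩ := Ideal.mem_span_singleton'.mp (hk hr)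
    obtain ⟨⟨d, s, hs⟩, hc⟩ := IsLocalization.surj (Algebra.algebraMapSubmonoid D q.asIdeal.primeCompl) c
    obtain ⟨t, ht, rfl⟩ := hs
    obtain ⟨β, hβ⟩ := hn _ (Ideal.pow_mem_pow hgm n) d
    have hu : IsUnit (algebraMap B Bq t) := IsLocalization.map_units Bq (⟨t, ht⟩ : q.asIdeal.primeCompl)
    refine ⟨w * (algebraMap B Bq β * ↑hu.unit⁻¹), ?_⟩
    refine (hu.map (algebraMap Bq Dq)).mul_right_cancel ?_
    have hc' : c * algebraMap Bq Dq (algebraMap B Bq t) = algebraMap D Dq d := by
      rw [← IsScalarTower.algebraMap_apply B Bq Dq, IsScalarTower.algebraMap_apply B D Dq]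
      exact hc
    rw [← map_mul, Algebra.smul_def, mul_assoc (algebraMap Bq Dq _) c, hc', mul_assoc, mul_assoc, IsUnit.val_inv_mul, mul_one,
      map_mul, map_mul, ← IsScalarTower.algebraMap_apply B Bq Dq, IsScalarTower.algebraMap_apply B D Dq,
      show algebraMap B D β = g ^ n • d from hβ, Algebra.smul_def, map_mul, mul_assoc, map_pow, map_pow,
      map_pow, ← IsScalarTower.algebraMap_apply A D Dq, ← IsScalarTower.algebraMap_apply A Bq Dq]
  have hext : CycAlg.IsFinExt Bq Dq (maximalIdeal Bq) := ⟨hinj, hfin, hker⟩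
  -- the maximal ideals
  haveI : Algebra.IsIntegral B D := Algebra.IsIntegral.of_finite B D
  haveI : Algebra.IsIntegral Bq Dq := Algebra.IsIntegral.of_finite Bq Dq
  let under : MaximalSpectrum Dq → Ideal D := fun r' => r'.asIdeal.comap (algebraMap D Dq)
  have hunder : ∀ r', (under r').IsMaximal ∧ (under r').comap (algebraMap B D) = q.asIdeal := fun r' => by
    haveI := r'.isMaximal
    have h1 : (under r').comap (algebraMap B D) = q.asIdeal := by
      rw [Ideal.comap_comap, ← IsScalarTower.algebraMap_eq, IsScalarTower.algebraMap_eq B Bq Dq,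
        ← Ideal.comap_comap, under_eq_maximal (A := Bq) r'.asIdeal]
      exact IsLocalization.AtPrime.comap_maximalIdeal Bq q.asIdeal
    haveI : (under r').IsPrime := Ideal.IsPrime.comap _
    exact ⟨Ideal.isMaximal_of_isIntegral_of_isMaximal_comap (R := B) _ (h1 ▸ q.isMaximal), h1⟩
  let pt : MaximalSpectrum Dq → MaximalSpectrum D := fun r' => ⟨under r', (hunder r').1⟩
  have hloc : ∀ r' : MaximalSpectrum Dq, IsLocalization.AtPrime (Localization.AtPrime r'.asIdeal) (pt r').asIdeal :=
    fun r' => IsLocalization.isLocalization_isLocalization_atPrime_isLocalization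
      (Algebra.algebraMapSubmonoid D q.asIdeal.primeCompl) (Localization.AtPrime r'.asIdeal) r'.asIdeal
  let e : ∀ r' : MaximalSpectrum Dq, Localization.AtPrime (pt r').asIdeal ≃ₐ[D] Localization.AtPrime r'.asIdeal :=
    fun r' => haveI := hloc r'; IsLocalization.algEquiv (pt r').asIdeal.primeCompl _ _
  have he : ∀ (r' : MaximalSpectrum Dq) (c : A), (e r').toRingEquiv (algebraMap A _ c) =
      algebraMap Bq (Localization.AtPrime r'.asIdeal) (algebraMap A Bq c) := fun r' c => by
    show e r' (algebraMap A _ c) = _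
    rw [IsScalarTower.algebraMap_apply A D (Localization.AtPrime (pt r').asIdeal), AlgEquiv.commutes,
      IsScalarTower.algebraMap_apply D Dq (Localization.AtPrime r'.asIdeal),
      IsScalarTower.algebraMap_apply Bq Dq (Localization.AtPrime r'.asIdeal),
      ← IsScalarTower.algebraMap_apply A D Dq, ← IsScalarTower.algebraMap_apply A Bq Dq]
  let y : ∀ r' : MaximalSpectrum Dq, ResidueField (Localization.AtPrime r'.asIdeal) := fun r' =>
    ResidueField.map ((e r').toRingEquiv : _ →+* _) (x (pt r'))
  have hval : CycAlg.tameSymbol Bq (algebraMap A Bq a) (algebraMap A Bq b) = ∏ᶠ r', nrm Bq r' (y r') := by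
    refine tameSymbol_eq ?_ ?_ hext ⟨y, fun r' => ?_, rfl⟩
    · rw [IsScalarTower.algebraMap_apply A B Bq]
      exact IsLocalization.map_nonZeroDivisors_le q.asIdeal.primeCompl Bq ⟨_, haB, rfl⟩
    · rw [IsScalarTower.algebraMap_apply A B Bq]
      exact IsLocalization.map_nonZeroDivisors_le q.asIdeal.primeCompl Bq ⟨_, hbB, rfl⟩
    · rw [← he r' a, ← he r' b]
      exact (hx (pt r')).equiv _
  haveI := finite_maximalSpectrum Bq Dq
  letI := Fintype.ofFinite (MaximalSpectrum Dq)
  rw [hval, finprod_eq_prod_of_fintype, map_prod]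
  refine (Finset.prod_bij (fun r' _ => pt r') ?_ ?_ ?_ ?_).symm
  · exact fun r' _ => Finset.mem_filter.mpr ⟨Finset.mem_univ _, MaximalSpectrum.ext (hunder r').2⟩
  · intro r₁ _ r₂ _ h
    refine MaximalSpectrum.ext ?_
    have h' : r₁.asIdeal.under D = r₂.asIdeal.under D := congrArg MaximalSpectrum.asIdeal h
    have e1 := IsLocalization.map_under (Algebra.algebraMapSubmonoid D q.asIdeal.primeCompl) Dq r₁.asIdeal
    have e2 := IsLocalization.map_under (Algebra.algebraMapSubmonoid D q.asIdeal.primeCompl) Dq r₂.asIdeal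
    exact e1.symm.trans ((congrArg (Ideal.map (algebraMap D Dq)) h').trans e2)
  · intro r hr
    have hrq : r.asIdeal.comap (algebraMap B D) = q.asIdeal :=
      congrArg MaximalSpectrum.asIdeal (Finset.mem_filter.mp hr).2
    have hdis : Disjoint (Algebra.algebraMapSubmonoid D q.asIdeal.primeCompl : Set D) r.asIdeal :=
      Set.disjoint_left.mpr fun z hz hzr => by
        obtain ⟨t, ht, rfl⟩ := hz
        exact ht (hrq ▸ hzr)
    haveI := r.isMaximal
    have hp := IsLocalization.isPrime_of_isPrime_disjoint _ Dq r.asIdeal inferInstance hdis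
    have hc : (r.asIdeal.map (algebraMap D Dq)).comap (algebraMap D Dq) = r.asIdeal :=
      IsLocalization.comap_map_of_isPrime_disjoint _ Dq (inferInstance : r.asIdeal.IsPrime) hdis
    have hm : (r.asIdeal.map (algebraMap D Dq)).IsMaximal := by
      refine Ideal.isMaximal_of_isIntegral_of_isMaximal_comap (R := Bq) _ ?_
      have h1 : (((r.asIdeal.map (algebraMap D Dq)).comap (algebraMap Bq Dq))).comap (algebraMap B Bq) = q.asIdeal := by
        rw [Ideal.comap_comap, ← IsScalarTower.algebraMap_eq, IsScalarTower.algebraMap_eq B D Dq,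
          ← Ideal.comap_comap, hc, hrq]
      rw [← IsLocalization.map_under q.asIdeal.primeCompl Bq ((r.asIdeal.map (algebraMap D Dq)).comap _),
        show Ideal.under B ((r.asIdeal.map (algebraMap D Dq)).comap (algebraMap Bq Dq)) = q.asIdeal from h1,
        Localization.AtPrime.map_eq_maximalIdeal]
      infer_instance
    exact ⟨⟨_, hm⟩, Finset.mem_univ _, MaximalSpectrum.ext hc⟩
  · intro r' _
    haveI := (pt r').isMaximal
    haveI := isLocalHom_atPrime (A := A) (pt r').asIdeal
    haveI := isLocalHom_atPrime (A := Bq) r'.asIdeal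
    haveI := finite_residueField (A := A) q
    haveI := finite_residueField (A := Bq) r'
    show Algebra.norm (ResidueField A) (Algebra.norm (ResidueField Bq) (y r')) = _
    refine norm_transport (ResidueField.mapEquiv (e r').toRingEquiv) (fun z => ?_) (x (pt r'))
    obtain ⟨c, rfl⟩ := residue_surjective z
    exact congrArg (residue _) (he r' c)

theorem tameSymbol_trans (hB : Good A B) {g : A} (hgm : g ∈ maximalIdeal A) (hgA : g ∈ nonZeroDivisors A)
    {a b : A} (ha : a ∈ nonZeroDivisors A) (hb : b ∈ nonZeroDivisors A) :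
    CycAlg.tameSymbol A a b = ∏ᶠ q : MaximalSpectrum B, nrm A q
      (CycAlg.tameSymbol (Localization.AtPrime q.asIdeal) (algebraMap A _ a) (algebraMap A _ b)) := by
  classical
  obtain ⟨C, _, _, _, v, hC, hv⟩ := exists_val ha hb
  obtain ⟨D, _, _, _, φ, φ', hD, hφ, hφ', hr, hr'⟩ := exists_common hB hC hgm hgA
  obtain ⟨-, -, n, hn⟩ := hD.fin
  have hk : ∀ {E : Type u} [CommRing E] [Algebra A E] (ψ : E →ₐ[A] D), ∀ r ∈ maximalIdeal A ^ n, ∀ c : D,
      r • c ∈ LinearMap.range ψ.toLinearMap := fun ψ r hr c => by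
    obtain ⟨α, hα⟩ := hn r hr c
    exact ⟨algebraMap A _ α, (ψ.commutes α).trans hα⟩
  have hv' := hv.map φ' hφ' (hk φ') hr'
  rw [tameSymbol_eq ha hb hD.fin hv']
  obtain ⟨x, hx, rfl⟩ := hv'
  have := finite_maximalSpectrum A B
  have := finite_maximalSpectrum A D
  letI := Fintype.ofFinite (MaximalSpectrum B)
  letI := Fintype.ofFinite (MaximalSpectrum D)
  rw [finprod_eq_prod_of_fintype, finprod_eq_prod_of_fintype,
    ← Finset.prod_fiberwise_of_maps_to (s := Finset.univ) (t := Finset.univ) (g := down' φ)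
      (fun _ _ => Finset.mem_univ _)]
  exact Finset.prod_congr rfl fun q _ =>
    fibre_value φ hφ (hk φ) hgm (hB.reg g hgA) (hB.reg a ha) (hB.reg b hb) x hx q

end Groth.Agent.TameLib
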