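import Groth.Agent.TameLib.Semilocal
import Groth.Agent.IntThLib.Euler

/-! Common factors in a finite birational extension. -/

namespace Groth.Agent.TameLib

open IntThLib

universe u

variable {B : Type u} [CommRing B] [IsNoetherianRing B] [Ring.KrullDimLE 1 B]

/-- An ideal containing a regular element has `len (J / a J) = len (B / a B)`. -/
theorem length_ideal_quot {a : B} (ha : a ∈ nonZeroDivisors B) (J : Ideal B) {n : ℕ} (hJ : a ^ n ∈ J) :
    Module.length B (J ⧸ LinearMap.range (LinearMap.lsmul B J a)) = Module.length B (B ⧸ Ideal.span {a}) := by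
  have hinj : Function.Injective (LinearMap.lsmul B B a) := fun x y h => by
    simp only [LinearMap.lsmul_apply, smul_eq_mul] at h
    exact (mul_cancel_left_mem_nonZeroDivisors ha).mp h
  have hinjJ : Function.Injective (LinearMap.lsmul B J a) := fun x y h =>
    Subtype.ext (hinj (congrArg Subtype.val h))
  have hr : LinearMap.range (LinearMap.lsmul B B a) = Ideal.span {a} := by
    ext z
    rw [LinearMap.mem_range, Ideal.mem_span_singleton']
    exact exists_congr fun w => by rw [LinearMap.lsmul_apply, smul_eq_mul, mul_comm]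
  have hB : Module.length B (B ⧸ LinearMap.range (LinearMap.lsmul B B a)) = Module.length B (B ⧸ Ideal.span {a}) :=
    (Submodule.quotEquivOfEq _ _ hr).length_eq
  have hBfin : Module.length B (B ⧸ Ideal.span {a}) ≠ ⊤ := length_span_singleton_ne_top ha
  have hQfin : Module.length B (B ⧸ J) ≠ ⊤ := by
    refine ne_top_of_le_ne_top (length_span_singleton_ne_top (pow_mem ha n))
      (Module.length_le_of_surjective (Submodule.factor ((Ideal.span_singleton_le_iff_mem J).mpr hJ))
        (Submodule.factor_surjective _))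
  obtain ⟨fQ, eQ⟩ := euler_of_finite_length (LinearMap.lsmul B (B ⧸ J) a) hQfin
  have hk : Module.length B (LinearMap.ker (LinearMap.lsmul B B a)) = 0 := (eul_of_injective _ hinj).2
  have hkJ : Module.length B (LinearMap.ker (LinearMap.lsmul B J a)) = 0 := (eul_of_injective _ hinjJ).2
  -- the cokernel on `J` has finite length
  have hJfin : Module.length B (J ⧸ LinearMap.range (LinearMap.lsmul B J a)) ≠ ⊤ := by
    refine ne_top_of_le_ne_top (b := Module.length B (B ⧸ Ideal.span {a ^ (n + 1)})) 
      (length_span_singleton_ne_top (pow_mem ha _)) ?_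
    -- `a J ⊇ a ^ (n + 1) B ∩ …`: embed into the quotient by `a ^ (n+1)`
    let T : Submodule B J := Submodule.comap (Submodule.subtype J) (Ideal.span {a ^ (n + 1)})
    have hT : T ≤ LinearMap.range (LinearMap.lsmul B J a) := by
      rintro z hz
      obtain ⟨w, hw⟩ := Ideal.mem_span_singleton'.mp hz
      refine ⟨⟨w * a ^ n, J.mul_mem_left w hJ⟩, Subtype.ext ?_⟩
      show a * (w * a ^ n) = (z : B)
      rw [show (z : B) = w * a ^ (n + 1) from hw.symm]
      ring
    refine (Module.length_le_of_surjective (Submodule.factor hT) (Submodule.factor_surjective _)).trans ?_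
    refine Module.length_le_of_injective (Submodule.mapQ T _ J.subtype le_rfl) ?_
    rw [← LinearMap.ker_eq_bot, LinearMap.ker_eq_bot']
    intro z hz
    obtain ⟨z, rfl⟩ := Submodule.mkQ_surjective _ z
    have h' : (Submodule.Quotient.mk (z : B) : B ⧸ Ideal.span {a ^ (n + 1)}) = 0 := hz
    exact (Submodule.Quotient.mk_eq_zero T).mpr ((Submodule.Quotient.mk_eq_zero _).mp h' :)
  obtain ⟨-, e⟩ := euler_additive (Submodule.injective_subtype J) J.mkQ_surjective (LinearMap.exact_subtype_mkQ J)
    (f' := LinearMap.lsmul B J a) (f := LinearMap.lsmul B B a) (f'' := LinearMap.lsmul B (B ⧸ J) a)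
    (LinearMap.ext fun v => map_smul J.subtype a v) (LinearMap.ext fun v => map_smul J.mkQ a v)
    ⟨hJfin, by rw [hkJ]; simp⟩ fQ
  rw [eQ, add_zero, eul, eul, hk, hkJ, hB] at e
  simp only [ENat.toNat_zero, Nat.cast_zero, sub_zero, Nat.cast_inj] at e
  rw [← ENat.natCast_toNat hJfin, ← ENat.natCast_toNat hBfin, e]

/-- A relation of degree `n` between `a` and `b` with a coefficient outside `q`. -/
theorem exists_relation {a : B} (ha : a ∈ nonZeroDivisors B) (b : B) {n : ℕ}
    (hn : Module.length B (B ⧸ Ideal.span {a}) < n) (q : Ideal B) [hq : q.IsMaximal] :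
    ∃ c : Fin (n + 1) → B, (∑ i, c i * (a ^ (i : ℕ) * b ^ (n - i))) = 0 ∧ ∃ i, c i ∉ q := by
  classical
  have hn0 : n ≠ 0 := by rintro rfl; simp at hn
  by_cases haq : a ∈ q
  swap
  · obtain ⟨m, rfl⟩ := Nat.exists_eq_succ_of_ne_zero hn0
    refine ⟨Pi.single (Fin.last (m + 1)) b - Pi.single (Fin.last m).castSucc a, ?_, (Fin.last m).castSucc, ?_⟩
    · simp only [Pi.sub_apply, sub_mul, Finset.sum_sub_distrib, Pi.single_apply, ite_mul, zero_mul,
        Finset.sum_ite_eq', Finset.mem_univ, if_true, Fin.val_last, Fin.val_castSucc]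
      rw [Nat.sub_self, show m + 1 - m = 1 by omega]
      ring
    · simp [Fin.ext_iff, haq]
  by_contra! hcon
  let w : Fin (n + 1) → B := fun i => a ^ (i : ℕ) * b ^ (n - i)
  let J : Ideal B := Submodule.span B (Set.range w)
  have hwJ : ∀ i, w i ∈ J := fun i => Submodule.subset_span ⟨i, rfl⟩
  let Ψ : (Fin (n + 1) → B) →ₗ[B] J := (Fintype.linearCombination B w).codRestrict J fun c => by
    rw [Fintype.linearCombination_apply]
    exact Submodule.sum_mem _ fun i _ => J.smul_mem _ (hwJ i)
  have hΨ : Function.Surjective Ψ := fun z => by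
    obtain ⟨c, hc⟩ := (Submodule.mem_span_range_iff_exists_fun B).mp z.2
    exact ⟨c, Subtype.ext hc⟩
  let π : (Fin (n + 1) → B) →ₗ[B] (Fin (n + 1) → B ⧸ q) := LinearMap.pi fun i => q.mkQ ∘ₗ LinearMap.proj i
  have hle : LinearMap.ker Ψ ≤ LinearMap.ker π := fun c hc => by
    have h : ∑ i, c i * (a ^ (i : ℕ) * b ^ (n - i)) = 0 := congrArg Subtype.val (LinearMap.mem_ker.mp hc)
    exact LinearMap.mem_ker.mpr (funext fun i => (Submodule.Quotient.mk_eq_zero q).mpr (hcon c h i))
  let Θ : J →ₗ[B] (Fin (n + 1) → B ⧸ q) :=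
    (LinearMap.ker Ψ).liftQ π hle ∘ₗ (Ψ.quotKerEquivOfSurjective hΨ).symm.toLinearMap
  have hΘ : Function.Surjective Θ := by
    intro z
    choose c hc using fun i => Submodule.mkQ_surjective q (z i)
    refine ⟨Ψ c, ?_⟩
    show (LinearMap.ker Ψ).liftQ π hle ((Ψ.quotKerEquivOfSurjective hΨ).symm (Ψ c)) = z
    rw [show (Ψ.quotKerEquivOfSurjective hΨ).symm (Ψ c) = Submodule.Quotient.mk c from
      (LinearEquiv.symm_apply_eq _).mpr rfl, Submodule.liftQ_apply]
    exact funext hc
  have hker : LinearMap.range (LinearMap.lsmul B J a) ≤ LinearMap.ker Θ := by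
    rintro _ ⟨z, rfl⟩
    rw [LinearMap.mem_ker, LinearMap.lsmul_apply, map_smul]
    funext i
    obtain ⟨y, hy⟩ := Submodule.mkQ_surjective q (Θ z i)
    rw [Pi.smul_apply, ← hy, ← map_smul]
    exact (Submodule.Quotient.mk_eq_zero q).mpr (q.mul_mem_right _ haq)
  have hsurj : Function.Surjective ((LinearMap.range (LinearMap.lsmul B J a)).liftQ Θ hker) := fun z => by
    obtain ⟨y, rfl⟩ := hΘ z
    exact ⟨Submodule.Quotient.mk y, rfl⟩
  have h1 := Module.length_le_of_surjective _ hsurj
  have : IsSimpleModule B (B ⧸ q) := isSimpleModule_iff_isCoatom.mpr hq.out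
  rw [Module.length_pi_of_fintype, length_ideal_quot ha J (n := n) (by
    have := hwJ (Fin.last n)
    simpa [w] using this)] at h1
  simp only [Module.length_eq_one, Finset.sum_const, Finset.card_univ, Fintype.card_fin, nsmul_eq_mul, mul_one] at h1
  exact absurd (h1.trans_lt hn) (by rw [Nat.cast_lt]; omega)

/-- A relation of some degree whose coefficients generate the unit ideal. -/
theorem exists_primitive_relation [Finite (MaximalSpectrum B)] {a : B} (ha : a ∈ nonZeroDivisors B) (b : B) :
    ∃ (n : ℕ) (c : Fin (n + 1) → B), 0 < n ∧ (∑ i, c i * (a ^ (i : ℕ) * b ^ (n - i))) = 0 ∧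
      ∀ q : Ideal B, q.IsMaximal → ∃ i, c i ∉ q := by
  classical
  obtain ⟨k, hk⟩ := ENat.ne_top_iff_exists.mp (length_span_singleton_ne_top ha)
  have hlt : Module.length B (B ⧸ Ideal.span {a}) < ((k + 1 : ℕ) : ℕ∞) := by
    rw [← hk, Nat.cast_lt]; omega
  have := Fintype.ofFinite (MaximalSpectrum B)
  choose c hc hcq using fun q : MaximalSpectrum B =>
    @exists_relation B _ _ _ a ha b (k + 1) hlt q.asIdeal q.isMaximal
  have hcop : Pairwise fun i j : MaximalSpectrum B => IsCoprime i.asIdeal j.asIdeal := fun i j hij =>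
    Ideal.isCoprime_iff_sup_eq.2 (i.isMaximal.coprime_of_ne j.isMaximal fun h => hij (MaximalSpectrum.ext h))
  choose e he using fun q : MaximalSpectrum B =>
    Ideal.exists_forall_sub_mem_ideal hcop fun q' => if q' = q then (1 : B) else 0
  refine ⟨k + 1, fun i => ∑ q, e q * c q i, k.succ_pos, ?_, fun p hp => ?_⟩
  · simp only [Finset.sum_mul, mul_assoc]
    rw [Finset.sum_comm]
    exact Finset.sum_eq_zero fun q _ => by rw [← Finset.mul_sum, hc q, mul_zero]
  · obtain ⟨i, hi⟩ := hcq ⟨p, hp⟩
    refine ⟨i, fun h => hi ?_⟩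
    have h1 : ∑ q, e q * c q i - c ⟨p, hp⟩ i ∈ p := by
      have : ∑ q, e q * c q i - c ⟨p, hp⟩ i =
          ∑ q : MaximalSpectrum B, (e q - if (⟨p, hp⟩ : MaximalSpectrum B) = q then 1 else 0) * c q i := by
        simp only [sub_mul, Finset.sum_sub_distrib, ite_mul, one_mul, zero_mul, Finset.sum_ite_eq, Finset.mem_univ,
          if_true]
      rw [this]
      exact Ideal.sum_mem _ fun q _ => p.mul_mem_right _ (he q ⟨p, hp⟩)
    simpa using p.sub_mem h h1

/-- Two elements, one regular, have a common factor with coprime cofactors in a finite extension inside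
`B[1/a]`. -/
theorem exists_common_factor (A : Type u) [CommRing A] [IsLocalRing A] [Algebra A B] [Module.Finite A B]
    (a b : B) (ha : a ∈ nonZeroDivisors B) :
    ∃ C : Subalgebra B (Localization.Away a), Module.Finite B C ∧ (∃ n : ℕ, ∀ z ∈ C, ∃ w : B,
        algebraMap B (Localization.Away a) (a ^ n) * z = algebraMap B (Localization.Away a) w) ∧
      ∃ t a' b' : C, algebraMap B C a = t * a' ∧ algebraMap B C b = t * b' ∧ Ideal.span {a', b'} = ⊤ := by
  classical
  have := finite_maximalSpectrum A B
  obtain ⟨n, c, hn, hrel, hcq⟩ := exists_primitive_relation ha b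
  let K := Localization.Away a
  let α : B →+* K := algebraMap B K
  obtain ⟨ua, hua⟩ := IsLocalization.Away.algebraMap_isUnit (S := K) a
  let y : K := α b * (↑ua⁻¹ : K)
  have hay : α a * y = α b := by
    show α a * (α b * _) = _
    rw [show α a = (ua : K) from hua.symm, mul_comm, mul_assoc, Units.inv_mul, mul_one]
  -- the relation as a polynomial in `y`
  let d : ℕ → B := fun j => if h : j ≤ n then c ⟨n - j, by omega⟩ else 0
  have hd : ∑ j ∈ Finset.range (n + 1), α (d j) * y ^ j = 0 := by
    refine (ua.isUnit.pow n).mul_left_eq_zero.mp ?_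
    have h0 := congrArg α hrel
    rw [map_zero, map_sum, ← Equiv.sum_comp Fin.revPerm] at h0
    rw [← h0, Finset.sum_mul, Finset.sum_range]
    refine Finset.sum_congr rfl fun j _ => ?_
    have hj : (j : ℕ) ≤ n := Nat.lt_succ_iff.mp j.2
    have hrev : ((Fin.revPerm j : Fin (n + 1)) : ℕ) = n - j := by simp [Fin.val_rev]
    have hc' : d j = c (Fin.revPerm j) := by
      rw [show d j = c ⟨n - j, by omega⟩ from dif_pos hj]
      exact congrArg c (Fin.ext hrev.symm)
    rw [hc', map_mul, map_mul, map_pow, map_pow, hrev, show n - (n - (j : ℕ)) = j by omega, ← hay, mul_pow, hua,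
      show α a = (ua : K) from hua.symm, ← pow_mul_pow_sub (ua : K) hj]
    ring
  -- the partial Horner sums
  let z : ℕ → K := fun k => ∑ i ∈ Finset.range (k + 1), α (d (n - k + i)) * y ^ i
  have hz0 : z 0 = α (d n) := by simp [z]
  have hzn : z n = 0 := by
    simp only [z, Nat.sub_self, zero_add]
    exact hd
  have hzsucc : ∀ k, k < n → y * z k = z (k + 1) - α (d (n - (k + 1))) := by
    intro k hk
    simp only [z]
    rw [Finset.sum_range_succ' (fun i => α (d (n - (k + 1) + i)) * y ^ i) (k + 1), Finset.mul_sum]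
    simp only [add_zero, pow_zero, mul_one, add_sub_cancel_right]
    refine Finset.sum_congr rfl fun i _ => ?_
    rw [show n - (k + 1) + (i + 1) = n - k + i by omega, pow_succ]
    ring
  let V : Submodule B K := Submodule.span B (Set.range fun j : Fin n => y ^ (j : ℕ))
  have hyV : ∀ j, j < n → y ^ j ∈ V := fun j hj => Submodule.subset_span ⟨⟨j, hj⟩, rfl⟩
  have hαV : ∀ (r : B) {v : K}, v ∈ V → α r * v ∈ V := fun r v hv => by
    rw [← Algebra.smul_def]; exact V.smul_mem r hv
  let C : Subalgebra B K :=
    { carrier := {w | ∀ v ∈ V, w * v ∈ V}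
      mul_mem' := fun {w w'} hw hw' v hv => by rw [mul_assoc]; exact hw _ (hw' v hv)
      one_mem' := fun v hv => by rw [one_mul]; exact hv
      add_mem' := fun {w w'} hw hw' v hv => by rw [add_mul]; exact add_mem (hw v hv) (hw' v hv)
      zero_mem' := fun v _ => by rw [zero_mul]; exact zero_mem _
      algebraMap_mem' := fun r v hv => hαV r hv }
  have hzC : ∀ k, k ≤ n → z k ∈ C := by
    intro k hk v hv
    suffices ∀ j, j < n → z k * y ^ j ∈ V by
      induction hv using Submodule.span_induction with
      | mem v hv => obtain ⟨j, rfl⟩ := hv; exact this j j.2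
      | zero => rw [mul_zero]; exact zero_mem _
      | add v v' _ _ h h' => rw [mul_add]; exact add_mem h h'
      | smul r v _ h => rw [mul_smul_comm]; exact V.smul_mem r h
    intro j hj
    rcases lt_or_ge (k + j) n with h | h
    · rw [show z k = ∑ i ∈ Finset.range (k + 1), α (d (n - k + i)) * y ^ i from rfl, Finset.sum_mul]
      refine Submodule.sum_mem _ fun i hi => ?_
      rw [mul_assoc, ← pow_add]
      exact hαV _ (hyV _ (by rw [Finset.mem_range] at hi; omega))
    · have hsplit : z k * y ^ (n - k) = -∑ i ∈ Finset.range (n - k), α (d i) * y ^ i := by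
        rw [eq_neg_iff_add_eq_zero, add_comm, ← hd, show n + 1 = (n - k) + (k + 1) by omega,
          Finset.sum_range_add _ (n - k) (k + 1)]
        congr 1
        rw [show z k = ∑ i ∈ Finset.range (k + 1), α (d (n - k + i)) * y ^ i from rfl, Finset.sum_mul]
        exact Finset.sum_congr rfl fun i _ => by rw [mul_assoc, ← pow_add, add_comm i]
      rw [show j = (n - k) + (j - (n - k)) by omega, pow_add, ← mul_assoc, hsplit, neg_mul, Finset.sum_mul]
      refine neg_mem (Submodule.sum_mem _ fun i hi => ?_)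
      rw [mul_assoc, ← pow_add]
      exact hαV _ (hyV _ (by rw [Finset.mem_range] at hi; omega))
  have hwC : ∀ k, k < n → y * z k ∈ C := fun k hk => by
    rw [hzsucc k hk]
    exact sub_mem (hzC _ hk) (C.algebraMap_mem _)
  have hCV : C.toSubmodule ≤ V := fun w hw => by
    simpa using hw _ (hyV 0 hn)
  have hCfin : Module.Finite B C := by
    have : Module.Finite B V := Module.Finite.span_of_finite B (Set.finite_range _)
    have : IsNoetherian B V := isNoetherian_of_isNoetherianRing_of_finite B V
    exact Module.Finite.of_injective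
      (Submodule.inclusion hCV : C.toSubmodule →ₗ[B] V) (Submodule.inclusion_injective hCV)
  refine ⟨C, hCfin, ⟨n, fun w hw => ?_⟩, ?_⟩
  · have : ∀ v ∈ V, ∃ r : B, α (a ^ n) * v = α r := by
      intro v hv
      induction hv using Submodule.span_induction with
      | mem v hv =>
        obtain ⟨j, rfl⟩ := hv
        refine ⟨a ^ (n - j) * b ^ (j : ℕ), ?_⟩
        rw [map_mul, map_pow, map_pow, map_pow, ← hay, mul_pow, ← pow_sub_mul_pow (α a) (le_of_lt j.2)]
        ring
      | zero => exact ⟨0, by rw [mul_zero, map_zero]⟩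
      | add v v' _ _ h h' =>
        obtain ⟨r, hr⟩ := h
        obtain ⟨r', hr'⟩ := h'
        exact ⟨r + r', by rw [mul_add, hr, hr', map_add]⟩
      | smul r v _ h =>
        obtain ⟨r', hr'⟩ := h
        exact ⟨r * r', by rw [Algebra.smul_def, mul_left_comm, hr', map_mul]⟩
    exact this w (hCV hw)
  -- local generators
  have : Module.Finite A C := by
    have : IsScalarTower A B C := IsScalarTower.of_algebraMap_eq fun _ => rfl
    exact Module.Finite.trans B C
  have := finite_maximalSpectrum A C
  let aC : C := algebraMap B C a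
  let bC : C := algebraMap B C b
  have hloc : ∀ Q : MaximalSpectrum C, ∃ (z w : C) (s t : C), aC * w = bC * z ∧ s * z + t * w ∉ Q.asIdeal := by
    intro Q
    have := Q.isMaximal
    have hint : Algebra.IsIntegral B C := Algebra.IsIntegral.of_finite B C
    obtain ⟨i, hi⟩ := hcq _ (Ideal.isMaximal_comap_of_isIntegral_of_isMaximal (R := B) Q.asIdeal)
    have heq : ∀ k (hk : k < n), aC * ⟨y * z k, hwC k hk⟩ = bC * ⟨z k, hzC k hk.le⟩ := fun k hk => by
      refine Subtype.ext ?_
      show α a * (y * z k) = α b * z k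
      rw [← mul_assoc, hay]
    by_cases h : ∀ k (hk : k < n), (⟨z k, hzC k hk.le⟩ : C) ∈ Q.asIdeal
    · -- some shifted sum is outside `Q`
      have hj : (i : ℕ) ≤ n := Nat.lt_succ_iff.mp i.2
      have hdi : d (n - i) = c i := by
        rw [show d (n - i) = c ⟨n - (n - i), by omega⟩ from dif_pos (Nat.sub_le _ _)]
        exact congrArg c (Fin.ext (by show n - (n - (i : ℕ)) = i; omega))
      rcases Nat.eq_zero_or_eq_succ_pred (i : ℕ) with h0 | h0
      · exfalso
        refine hi ?_
        rw [← hdi, h0, Nat.sub_zero]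
        show algebraMap B C (d n) ∈ Q.asIdeal
        exact (Subtype.ext hz0 : (⟨z 0, hzC 0 (Nat.zero_le _)⟩ : C) = algebraMap B C (d n)) ▸ h 0 hn
      · set k := (i : ℕ) - 1 with hkdef
        have hk : k < n := by omega
        have hnext : (⟨z (k + 1), hzC _ hk⟩ : C) ∈ Q.asIdeal := by
          rcases eq_or_lt_of_le (Nat.succ_le_of_lt hk) with h1 | h1
          · rw [show (⟨z (k + 1), hzC _ hk⟩ : C) = 0 from Subtype.ext (by
              show z (k + 1) = 0
              rw [show k + 1 = n from h1, hzn])]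
            exact zero_mem _
          · exact h _ h1
        refine ⟨⟨z k, hzC k hk.le⟩, ⟨y * z k, hwC k hk⟩, 0, 1, heq k hk, ?_⟩
        rw [zero_mul, zero_add, one_mul]
        intro hw
        refine hi ?_
        rw [← hdi, show n - (i : ℕ) = n - (k + 1) by omega]
        show algebraMap B C (d (n - (k + 1))) ∈ Q.asIdeal
        rw [show algebraMap B C (d (n - (k + 1))) = ⟨z (k + 1), hzC _ hk⟩ - ⟨y * z k, hwC k hk⟩ from
          Subtype.ext (by show α _ = z (k + 1) - y * z k; rw [hzsucc k hk, sub_sub_cancel])]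
        exact Q.asIdeal.sub_mem hnext hw
    · push Not at h
      obtain ⟨k, hk, hkQ⟩ := h
      exact ⟨⟨z k, hzC k hk.le⟩, ⟨y * z k, hwC k hk⟩, 1, 0, heq k hk, by simpa using hkQ⟩
  choose zz ww ss tt heq hnot using hloc
  have := Fintype.ofFinite (MaximalSpectrum C)
  have hcop : Pairwise fun i j : MaximalSpectrum C => IsCoprime i.asIdeal j.asIdeal := fun i j hij =>
    Ideal.isCoprime_iff_sup_eq.2 (i.isMaximal.coprime_of_ne j.isMaximal fun h => hij (MaximalSpectrum.ext h))
  obtain ⟨sA, hsA⟩ := Ideal.exists_forall_sub_mem_ideal hcop ss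
  obtain ⟨tA, htA⟩ := Ideal.exists_forall_sub_mem_ideal hcop tt
  let T : C := sA * aC + tA * bC
  have hdiv : ∀ v : C, (∀ Q : MaximalSpectrum C, ∃ r, r ∉ Q.asIdeal ∧ T ∣ r * v) → T ∣ v := by
    intro v hv
    let I : Ideal C := { carrier := {r | T ∣ r * v}
                         zero_mem' := by simp
                         add_mem' := fun {r r'} h h' => by
                           show T ∣ (r + r') * v
                           rw [add_mul]
                           exact dvd_add h h'
                         smul_mem' := fun r r' h => by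
                           show T ∣ r * r' * v
                           rw [mul_assoc]
                           exact Dvd.dvd.mul_left h r }
    have hI : I = ⊤ := by
      by_contra hne
      obtain ⟨Q, hQ, hle⟩ := Ideal.exists_le_maximal I hne
      obtain ⟨r, hr, hrv⟩ := hv ⟨Q, hQ⟩
      exact hr (hle hrv)
    have h1 : (1 : C) ∈ I := by rw [hI]; trivial
    change T ∣ 1 * v at h1
    rwa [one_mul] at h1
  have hr : ∀ Q : MaximalSpectrum C, sA * zz Q + tA * ww Q ∉ Q.asIdeal := fun Q h => hnot Q (by
    have : ss Q * zz Q + tt Q * ww Q =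
        (sA * zz Q + tA * ww Q) - ((sA - ss Q) * zz Q + (tA - tt Q) * ww Q) := by ring
    rw [this]
    exact Q.asIdeal.sub_mem h (add_mem (Q.asIdeal.mul_mem_right _ (hsA Q)) (Q.asIdeal.mul_mem_right _ (htA Q))))
  obtain ⟨a', ha'⟩ := hdiv aC fun Q => ⟨_, hr Q, zz Q, by
    show (sA * zz Q + tA * ww Q) * aC = (sA * aC + tA * bC) * zz Q
    linear_combination tA * heq Q⟩
  obtain ⟨b', hb'⟩ := hdiv bC fun Q => ⟨_, hr Q, ww Q, by
    show (sA * zz Q + tA * ww Q) * bC = (sA * aC + tA * bC) * ww Q
    linear_combination -sA * heq Q⟩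
  refine ⟨T, a', b', ha', hb', ?_⟩
  rw [Ideal.eq_top_iff_one, Ideal.mem_span_pair]
  refine ⟨sA, tA, Subtype.ext ?_⟩
  have h1 : aC * 1 = aC * (sA * a' + tA * b') := by
    linear_combination (1 - sA * a' - tA * b') * ha' + a' * (sA * ha' + tA * hb')
  obtain ⟨u, hu⟩ : IsUnit ((aC : C) : K) := IsLocalization.Away.algebraMap_isUnit (S := K) a
  have h2 := congrArg (Subtype.val : C → K) h1
  rw [MulMemClass.coe_mul, MulMemClass.coe_mul, ← hu] at h2
  exact ((Units.mul_right_inj u).mp h2).symm

end Groth.Agent.TameLib
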