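import Groth.Prelude.Def_CycAlg
import Groth.Agent.TameLib.Gcd
import Groth.Agent.CycLib.FinLen

/-! Good finite extensions of a one-dimensional local ring, and factorisations by local parameters. -/

namespace Groth.Agent.TameLib

set_option linter.unusedSectionVars false

open IsLocalRing IntThLib
open scoped Pointwise

universe u

variable {A : Type u} [CommRing A] [IsLocalRing A] {B : Type u} [CommRing B] [Algebra A B]

/-- A finite extension with cokernel killed by a power of the maximal ideal on which the regular elements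
of the base stay regular. -/
structure Good (A : Type u) [CommRing A] [IsLocalRing A] (B : Type u) [CommRing B] [Algebra A B] : Prop where
  fin : CycAlg.IsFinExt A B (maximalIdeal A)
  reg : ∀ y ∈ nonZeroDivisors A, algebraMap A B y ∈ nonZeroDivisors B

theorem good_self : Good A A :=
  ⟨⟨fun _ _ h => h, Module.Finite.self A, 0, fun r _ b => ⟨r • b, rfl⟩⟩, fun _ hy => hy⟩

theorem Good.finite (h : Good A B) : Module.Finite A B := h.fin.2.1

theorem Good.isNoetherian [IsNoetherianRing A] (h : Good A B) : IsNoetherianRing B :=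
  haveI := h.finite
  IsNoetherianRing.of_finite A B

theorem Good.dim [Ring.KrullDimLE 1 A] (h : Good A B) : Ring.KrullDimLE 1 B :=
  haveI := h.finite
  krullDimLE_one (A := A)

variable [IsNoetherianRing A] [Ring.KrullDimLE 1 A] [Module.Finite A B]

/-- A power of the maximal ideal lands in the ideal of a regular element. -/
theorem exists_pow_le {x : B} (hx : x ∈ nonZeroDivisors B) :
    ∃ N, maximalIdeal A ^ N ≤ (Ideal.span {x}).comap (algebraMap A B) := by
  have : IsNoetherianRing B := IsNoetherianRing.of_finite A B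
  have : Ring.KrullDimLE 1 B := krullDimLE_one (A := A)
  have hint : Algebra.IsIntegral A B := Algebra.IsIntegral.of_finite A B
  have hrad : maximalIdeal A ≤ ((Ideal.span {x}).comap (algebraMap A B)).radical := by
    rw [Ideal.radical_eq_sInf]
    refine le_sInf ?_
    rintro p ⟨hp, hpp⟩
    obtain ⟨Q, hQ, hQp, rfl⟩ := Ideal.exists_ideal_over_prime_of_isIntegral p (Ideal.span {x}) hp
    have hfl := isFiniteLength_quotient_span_singleton B hx
    have : IsArtinian B (B ⧸ Ideal.span {x}) := (isFiniteLength_iff_isNoetherian_isArtinian.mp hfl).2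
    have : IsArtinianRing (B ⧸ Ideal.span {x}) :=
      isArtinian_of_tower B (inferInstance : IsArtinian B (B ⧸ Ideal.span {x}))
    have : (Q.map (Ideal.Quotient.mk (Ideal.span {x}))).IsPrime :=
      Ideal.map_isPrime_of_surjective Ideal.Quotient.mk_surjective (by rw [Ideal.mk_ker]; exact hQ)
    have hmax : (Q.map (Ideal.Quotient.mk (Ideal.span {x}))).IsMaximal := IsArtinianRing.isMaximal_of_isPrime _
    have hQmax : Q.IsMaximal := by
      have h := Ideal.comap_isMaximal_of_surjective (Ideal.Quotient.mk (Ideal.span {x})) Ideal.Quotient.mk_surjective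
        (K := Q.map (Ideal.Quotient.mk (Ideal.span {x})))
      rwa [Ideal.comap_map_of_surjective _ Ideal.Quotient.mk_surjective,
        sup_eq_left.2 (by rw [← RingHom.ker_eq_comap_bot, Ideal.mk_ker]; exact hQ)] at h
    exact (under_eq_maximal (A := A) Q).ge
  exact Ideal.exists_pow_le_of_le_radical_of_fg hrad (IsNoetherian.noetherian _)

/-- The weight `len_A (B / x B)`. -/
noncomputable def wt (A : Type u) [CommRing A] {B : Type u} [CommRing B] [Algebra A B] (x : B) : ℕ∞ :=
  Module.length A (B ⧸ Ideal.span {x})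

theorem length_ne_top_of_pow {M : Type u} [AddCommGroup M] [Module A M] [Module.Finite A M] {N : ℕ}
    (h : ∀ r ∈ maximalIdeal A ^ N, ∀ m : M, r • m = 0) : Module.length A M ≠ ⊤ := by
  refine CycLib.length_ne_top_of_support fun p hp => ?_
  have h1 : maximalIdeal A ^ N ≤ p.asIdeal := fun r hr =>
    Module.annihilator_le_of_mem_support hp (Module.mem_annihilator.mpr (h r hr))
  exact le_antisymm (le_maximalIdeal p.2.ne_top) (p.2.le_of_pow_le h1)

theorem wt_ne_top {x : B} (hx : x ∈ nonZeroDivisors B) : wt A x ≠ ⊤ := by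
  obtain ⟨N, hN⟩ := exists_pow_le (A := A) hx
  refine length_ne_top_of_pow (N := N) fun r hr m => ?_
  obtain ⟨m, rfl⟩ := Ideal.Quotient.mk_surjective m
  rw [Algebra.smul_def,
    show algebraMap A (B ⧸ Ideal.span {x}) r = Ideal.Quotient.mk _ (algebraMap A B r) from rfl, ← map_mul]
  exact Ideal.Quotient.eq_zero_iff_mem.mpr ((Ideal.span {x}).mul_mem_right m (hN hr))

omit [IsLocalRing A] [IsNoetherianRing A] [Ring.KrullDimLE 1 A] [Module.Finite A B] in
theorem wt_mul {x y : B} (hy : y ∈ nonZeroDivisors B) : wt A (x * y) = wt A x + wt A y := by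
  have h := Module.length_eq_add_of_exact ((Ideal.mulQuot y (Ideal.span {x})).restrictScalars A)
    ((Ideal.quotOfMul y (Ideal.span {x})).restrictScalars A) (Ideal.mulQuot_injective (Ideal.span {x}) hy)
    (Ideal.quotOfMul_surjective (Ideal.span {x})) (Ideal.exact_mulQuot_quotOfMul (Ideal.span {x}))
  have lem : (({y} : Set B) • Ideal.span {x}) = Ideal.span {y * x} := by
    simp [← Ideal.submodule_span_eq, Submodule.set_smul_span]
  have h' : (({y} : Set B) • Ideal.span {x}) = y • Ideal.span {x} := Submodule.singleton_set_smul (Ideal.span {x}) y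
  rw [h'] at lem
  rw [lem] at h
  rw [mul_comm]
  exact h

variable {C : Type u} [CommRing C] [Algebra A C]

theorem length_coker_ne_top [Module.Finite A C] (φ : B →ₐ[A] C) {n : ℕ}
    (h : ∀ r ∈ maximalIdeal A ^ n, ∀ c : C, r • c ∈ LinearMap.range φ.toLinearMap) :
    Module.length A (C ⧸ LinearMap.range φ.toLinearMap) ≠ ⊤ :=
  length_ne_top_of_pow (N := n) fun r hr z => by
    obtain ⟨z, rfl⟩ := Submodule.mkQ_surjective _ z
    rw [← map_smul]
    exact (Submodule.Quotient.mk_eq_zero _).mpr (h r hr z)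

/-- The weight is unchanged in a birational extension. -/
theorem wt_map [Module.Finite A C] (φ : B →ₐ[A] C) (hφ : Function.Injective φ) {n : ℕ}
    (h : ∀ r ∈ maximalIdeal A ^ n, ∀ c : C, r • c ∈ LinearMap.range φ.toLinearMap)
    {x : B} (hx : x ∈ nonZeroDivisors B) (hx' : φ x ∈ nonZeroDivisors C) : wt A (φ x) = wt A x := by
  have hr : ∀ {D : Type u} [CommRing D] [Algebra A D] (d : D),
      LinearMap.range (LinearMap.mulLeft A d) = (Ideal.span {d}).restrictScalars A := fun d => by
    ext z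
    rw [LinearMap.mem_range, Submodule.restrictScalars_mem, Ideal.mem_span_singleton']
    exact exists_congr fun w => by rw [LinearMap.mulLeft_apply, mul_comm]
  have hlen : ∀ {D : Type u} [CommRing D] [Algebra A D] (d : D),
      Module.length A (D ⧸ LinearMap.range (LinearMap.mulLeft A d)) = wt A d := fun d =>
    ((Submodule.quotEquivOfEq _ _ (hr d)).trans (Submodule.Quotient.restrictScalarsEquiv A _)).length_eq
  have hinj : ∀ {D : Type u} [CommRing D] [Algebra A D] {d : D}, d ∈ nonZeroDivisors D →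
      Function.Injective (LinearMap.mulLeft A d) := fun hd u v e => (mul_cancel_left_mem_nonZeroDivisors hd).mp e
  have hfQ := length_coker_ne_top φ h
  let f'' : (C ⧸ LinearMap.range φ.toLinearMap) →ₗ[A] (C ⧸ LinearMap.range φ.toLinearMap) :=
    Submodule.mapQ _ _ (LinearMap.mulLeft A (φ x)) (by
      rintro _ ⟨b, rfl⟩
      exact ⟨x * b, map_mul φ x b⟩)
  obtain ⟨fQ, eQ⟩ := euler_of_finite_length f'' hfQ
  obtain ⟨eB, kB⟩ := eul_of_injective _ (hinj (D := B) hx)
  obtain ⟨eC, kC⟩ := eul_of_injective _ (hinj (D := C) hx')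
  obtain ⟨fC, e⟩ := euler_additive (i := φ.toLinearMap) hφ (Submodule.mkQ_surjective _)
    (LinearMap.exact_map_mkQ_range _) (f' := LinearMap.mulLeft A x) (f := LinearMap.mulLeft A (φ x)) (f'' := f'')
    (LinearMap.ext fun v => map_mul φ x v) (LinearMap.ext fun v => rfl)
    ⟨by rw [hlen]; exact wt_ne_top hx, by rw [kB]; simp⟩ fQ
  rw [eQ, add_zero, eB, eC, hlen, hlen, Nat.cast_inj] at e
  have hCfin : wt A (φ x) ≠ ⊤ := by rw [← hlen]; exact fC.1
  rw [← ENat.natCast_toNat (wt_ne_top hx), ← ENat.natCast_toNat hCfin, e]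

/-- The common factor step. -/
theorem exists_step (hB : Good A B) (a b : B) (ha : a ∈ nonZeroDivisors B) :
    ∃ (C : Type u) (_ : CommRing C) (_ : Algebra A C) (φ : B →ₐ[A] C), Good A C ∧ Function.Injective φ ∧
      (∀ y ∈ nonZeroDivisors B, φ y ∈ nonZeroDivisors C) ∧
      (∀ y ∈ nonZeroDivisors B, wt A (φ y) = wt A y) ∧
      (∀ y : B, ¬ IsUnit y → ¬ IsUnit (φ y)) ∧
      (∀ y z : B, Ideal.span {y, z} ≠ ⊤ → Ideal.span {φ y, φ z} ≠ ⊤) ∧
      ∃ t a' b' : C, φ a = t * a' ∧ φ b = t * b' ∧ Ideal.span {a', b'} = ⊤ := by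
  have : IsNoetherianRing B := hB.isNoetherian
  have : Ring.KrullDimLE 1 B := hB.dim
  obtain ⟨S, hS, ⟨n, hn⟩, t, a', b', h1, h2, h3⟩ := exists_common_factor A a b ha
  let K := Localization.Away a
  have hpow : Submonoid.powers a ≤ nonZeroDivisors B := Submonoid.powers_le.mpr ha
  have hinjK : Function.Injective (algebraMap B K) := IsLocalization.injective K hpow
  have : IsScalarTower A B S := IsScalarTower.of_algebraMap_eq fun _ => rfl
  let φ : B →ₐ[A] S := IsScalarTower.toAlgHom A B S
  have hφ : Function.Injective φ := fun u v h => hinjK (congrArg Subtype.val h)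
  have hSfin : Module.Finite A S := Module.Finite.trans B S
  obtain ⟨hAinj, -, k, hk⟩ := hB.fin
  have hreg : ∀ y ∈ nonZeroDivisors B, φ y ∈ nonZeroDivisors S := fun y hy => by
    refine mem_nonZeroDivisors_iff_right.mpr fun z hz => Subtype.ext ?_
    refine (mul_right_mem_nonZeroDivisors_eq_zero_iff
      (IsLocalization.map_nonZeroDivisors_le (Submonoid.powers a) K ⟨y, hy, rfl⟩)).mp ?_
    exact congrArg Subtype.val hz
  obtain ⟨N, hN⟩ := exists_pow_le (A := A) (pow_mem ha n)
  have hkill : ∀ r ∈ maximalIdeal A ^ (k + N), ∀ c : S, r • c ∈ LinearMap.range (Algebra.linearMap A S) := by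
    intro r hr c
    rw [pow_add] at hr
    induction hr using Submodule.mul_induction_on' with
    | mem_mul_mem r hr s hs =>
      obtain ⟨w, hw⟩ := Ideal.mem_span_singleton'.mp (hN hs)
      obtain ⟨v, hv⟩ := hn c.1 c.2
      obtain ⟨α, hα⟩ := hk r hr (w * v)
      refine ⟨α, Subtype.ext ?_⟩
      have hv' : φ (a ^ n) * c = φ v := Subtype.ext hv
      have e : (r * s) • c = φ (r • (w * v)) := by
        rw [Algebra.smul_def, IsScalarTower.algebraMap_apply A B S, map_mul, ← hw, Algebra.smul_def, map_mul φ,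
          map_mul φ, ← hv']
        show φ (algebraMap A B r * (w * a ^ n)) * c = _
        rw [map_mul φ, map_mul φ]
        ring
      rw [e, ← hα]
      rfl
    | add r _ s _ h h' => rw [add_smul]; exact add_mem h h'
  refine ⟨S, inferInstance, inferInstance, φ, ⟨⟨fun u v h => hAinj (hφ h), hSfin, k + N, fun r hr c => ?_⟩,
    fun y hy => hreg _ (hB.reg y hy)⟩, hφ, hreg, fun y hy => ?_, fun y hy hu => ?_, fun y z h htop => ?_,
    t, a', b', h1, h2, h3⟩
  · obtain ⟨α, hα⟩ := hkill r hr c
    exact ⟨α, hα⟩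
  · refine wt_map φ hφ (n := k + N) (fun r hr c => ?_) hy (hreg y hy)
    obtain ⟨α, hα⟩ := hkill r hr c
    exact ⟨algebraMap A B α, hα⟩
  · have hint : Algebra.IsIntegral B S := Algebra.IsIntegral.of_finite B S
    obtain ⟨q, hq, hyq⟩ := exists_max_ideal_of_mem_nonunits (mem_nonunits_iff.mpr hy)
    obtain ⟨Q, -, hQ, hQq⟩ := Ideal.exists_ideal_over_prime_of_isIntegral q (⊥ : Ideal S)
      (fun u hu => by
        rw [Ideal.mem_comap, Ideal.mem_bot] at hu
        rw [show u = 0 from hφ (hu.trans (map_zero φ).symm)]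
        exact zero_mem _)
    have hmem : φ y ∈ Q := Ideal.mem_comap.mp (hQq.symm ▸ hyq : y ∈ Q.comap (algebraMap B S))
    exact hQ.ne_top (Ideal.eq_top_of_isUnit_mem _ hmem hu)
  · have hint : Algebra.IsIntegral B S := Algebra.IsIntegral.of_finite B S
    obtain ⟨q, hq, hle⟩ := Ideal.exists_le_maximal _ h
    obtain ⟨Q, -, hQ, hQq⟩ := Ideal.exists_ideal_over_prime_of_isIntegral q (⊥ : Ideal S)
      (fun u hu => by
        rw [Ideal.mem_comap, Ideal.mem_bot] at hu
        rw [show u = 0 from hφ (hu.trans (map_zero φ).symm)]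
        exact zero_mem _)
    refine hQ.ne_top (top_le_iff.mp (htop.ge.trans (Ideal.span_le.mpr ?_)))
    rintro _ (rfl | rfl) <;> refine Ideal.mem_comap.mp (?_ : _ ∈ Q.comap (algebraMap B S)) <;> rw [hQq] <;>
      apply hle <;> exact Ideal.subset_span (by simp)

/-- Products of members of `L` and units. -/
def gen {D : Type u} [CommRing D] (L : Multiset D) : Submonoid D :=
  Submonoid.closure ({x | IsUnit x} ∪ {x | x ∈ L})

theorem wt_pos {x : B} (hx : ¬ IsUnit x) : 1 ≤ wt A x := by
  rw [Order.one_le_iff_ne_zero, wt, ne_eq, Module.length_eq_zero_iff, Submodule.Quotient.subsingleton_iff,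
    Ideal.span_singleton_eq_top]
  exact hx

omit [Module.Finite A B] in
/-- Factor refinement. -/
theorem exists_coprime : ∀ (w : ℕ) (B : Type u) [CommRing B] [Algebra A B], Good A B → ∀ L : Multiset B,
    (∀ x ∈ L, x ∈ nonZeroDivisors B) → (L.map (wt A)).sum ≤ (w : ℕ∞) →
    ∃ (C : Type u) (_ : CommRing C) (_ : Algebra A C) (φ : B →ₐ[A] C) (L' : Multiset C), Good A C ∧
      (∀ x ∈ L', x ∈ nonZeroDivisors C) ∧ (∀ x ∈ L, φ x ∈ gen L') ∧
      ∀ x y rest, L' = x ::ₘ y ::ₘ rest → Ideal.span {x, y} = ⊤ := by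
  intro w
  induction w using Nat.strong_induction_on with
  | _ w ih =>
    intro B _ _ hB L hL hw
    have := hB.finite
    by_cases hdone : ∀ x y rest, L = x ::ₘ y ::ₘ rest → Ideal.span {x, y} = ⊤
    · exact ⟨B, inferInstance, inferInstance, AlgHom.id A B, L, hB, hL,
        fun x hx => Submonoid.subset_closure (Or.inr hx), hdone⟩
    push Not at hdone
    obtain ⟨a, b, rest, rfl, hab⟩ := hdone
    simp only [Multiset.mem_cons, forall_eq_or_imp] at hL
    obtain ⟨ha, hb, hrest⟩ := hL
    obtain ⟨C, _, _, φ, hC, -, hreg, hwt, hnu, hspan, t, a', b', e1, e2, e3⟩ := exists_step hB a b ha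
    have := hC.finite
    obtain ⟨ht, ha'⟩ := mul_mem_nonZeroDivisors.mp (e1 ▸ hreg a ha)
    have hb' := (mul_mem_nonZeroDivisors.mp (e2 ▸ hreg b hb)).2
    have htu : ¬ IsUnit t := fun hu => hspan a b hab (by
      refine top_le_iff.mp (e3.ge.trans (Ideal.span_le.mpr ?_))
      obtain ⟨u, rfl⟩ := hu
      rintro _ (rfl | rfl)
      · exact (Ideal.unit_mul_mem_iff_mem _ u.isUnit).mp (e1 ▸ Ideal.subset_span (by simp))
      · exact (Ideal.unit_mul_mem_iff_mem _ u.isUnit).mp (e2 ▸ Ideal.subset_span (by simp)))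
    have hlt : ((t ::ₘ a' ::ₘ b' ::ₘ rest.map φ).map (wt A)).sum + 1 ≤ (w : ℕ∞) := by
      refine le_trans ?_ hw
      rw [Multiset.map_cons, Multiset.map_cons, Multiset.map_cons, Multiset.sum_cons, Multiset.sum_cons,
        Multiset.sum_cons, Multiset.map_cons, Multiset.map_cons, Multiset.sum_cons, Multiset.sum_cons,
        Multiset.map_map, (Multiset.map_congr rfl fun x hx => hwt x (hrest x hx) :
          rest.map (wt A ∘ φ) = rest.map (wt A)), ← hwt a ha, ← hwt b hb, e1, e2,
        wt_mul ha', wt_mul hb', add_assoc (wt A t) (wt A a')]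
      have h1 : (1 : ℕ∞) ≤ wt A t := wt_pos htu
      calc _ = wt A t + (wt A a' + (1 + (wt A b' + (rest.map (wt A)).sum))) := by abel
        _ ≤ wt A t + (wt A a' + (wt A t + (wt A b' + (rest.map (wt A)).sum))) := by gcongr
        _ = _ := by abel
    obtain ⟨m, hm⟩ := ENat.ne_top_iff_exists.mp
      (ne_top_of_le_ne_top (ENat.natCast_ne_top w) (le_self_add.trans hlt))
    rw [← hm] at hlt
    norm_cast at hlt
    obtain ⟨D, i1, i2, ψ, L', hD, hL', hgen, hp⟩ := ih m hlt C hC (t ::ₘ a' ::ₘ b' ::ₘ rest.map φ) (by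
      simp only [Multiset.mem_cons, forall_eq_or_imp, Multiset.mem_map, forall_exists_index, and_imp]
      exact ⟨ht, ha', hb', fun x y hy e => e ▸ hreg y (hrest y hy)⟩) hm.ge
    refine ⟨D, i1, i2, ψ.comp φ, L', hD, hL', fun x hx => ?_, hp⟩
    simp only [Multiset.mem_cons] at hx
    rcases hx with rfl | rfl | hx
    · rw [AlgHom.comp_apply, e1, map_mul]
      exact mul_mem (hgen t (by simp)) (hgen a' (by simp))
    · rw [AlgHom.comp_apply, e2, map_mul]
      exact mul_mem (hgen t (by simp)) (hgen b' (by simp))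
    · exact hgen _ (by simp only [Multiset.mem_cons, Multiset.mem_map]; exact Or.inr (Or.inr (Or.inr ⟨x, hx, rfl⟩)))

/-- Finitely many regular elements become powers of one regular element at every maximal ideal. -/
theorem exists_factorisations {r : ℕ} (a : Fin r → A) (ha : ∀ i, a i ∈ nonZeroDivisors A) :
    ∃ (B : Type u) (_ : CommRing B) (_ : Algebra A B), Good A B ∧
      ∀ q : MaximalSpectrum B, ∃ π : Localization.AtPrime q.asIdeal,
        π ∈ nonZeroDivisors (Localization.AtPrime q.asIdeal) ∧ ∀ i, ∃ (v : (Localization.AtPrime q.asIdeal)ˣ) (e : ℕ),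
          algebraMap A (Localization.AtPrime q.asIdeal) (a i) = (v : Localization.AtPrime q.asIdeal) * π ^ e := by
  classical
  let L : Multiset A := (Finset.univ : Finset (Fin r)).val.map a
  have hL : ∀ x ∈ L, x ∈ nonZeroDivisors A := fun x hx => by
    obtain ⟨i, -, rfl⟩ := Multiset.mem_map.mp hx
    exact ha i
  have hfin : (L.map (wt A)).sum ≠ ⊤ := Multiset.sum_induction (· ≠ ⊤) _ (fun _ _ h h' => WithTop.add_ne_top.mpr ⟨h, h'⟩)
    (by simp) fun x hx => by
      obtain ⟨y, hy, rfl⟩ := Multiset.mem_map.mp hx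
      exact wt_ne_top (hL y hy)
  obtain ⟨B, i1, i2, φ, L', hB, hL', hgen, hp⟩ :=
    exists_coprime _ A good_self L hL (ENat.natCast_toNat hfin).ge
  refine ⟨B, i1, i2, hB, fun q => ?_⟩
  have := hB.isNoetherian
  let R := Localization.AtPrime q.asIdeal
  let f : B →+* R := algebraMap B R
  obtain ⟨π, hπ, hπL⟩ : ∃ π : R, π ∈ nonZeroDivisors R ∧ ∀ x ∈ L', IsUnit (f x) ∨ f x = π := by
    by_cases h : ∃ x ∈ L', x ∈ q.asIdeal
    · obtain ⟨x, hx, hxq⟩ := h
      refine ⟨f x, IsLocalization.map_nonZeroDivisors_le q.asIdeal.primeCompl R ⟨x, hL' x hx, rfl⟩, fun y hy => ?_⟩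
      rcases eq_or_ne y x with rfl | hyx
      · exact Or.inr rfl
      refine Or.inl ((IsLocalization.AtPrime.isUnit_to_map_iff R q.asIdeal y).mpr fun hyq => ?_)
      obtain ⟨L₁, rfl⟩ := Multiset.exists_cons_of_mem hx
      obtain ⟨L₂, rfl⟩ := Multiset.exists_cons_of_mem ((Multiset.mem_cons.mp hy).resolve_left hyx)
      refine q.isMaximal.ne_top (top_le_iff.mp ((hp x y L₂ rfl).ge.trans (Ideal.span_le.mpr ?_)))
      rintro _ (rfl | rfl) <;> assumption
    · push Not at h
      exact ⟨1, one_mem _, fun y hy => Or.inl ((IsLocalization.AtPrime.isUnit_to_map_iff R q.asIdeal y).mpr (h y hy))⟩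
  refine ⟨π, hπ, fun i => ?_⟩
  suffices ∀ z ∈ gen L', ∃ (v : Rˣ) (e : ℕ), f z = (v : R) * π ^ e by
    obtain ⟨v, e, h⟩ := this _ (hgen (a i) (Multiset.mem_map_of_mem a (Finset.mem_univ i)))
    refine ⟨v, e, ?_⟩
    rw [IsScalarTower.algebraMap_apply A B (Localization.AtPrime q.asIdeal), ← φ.commutes]
    exact h
  intro z hz
  induction hz using Submonoid.closure_induction with
  | mem z hz =>
    rcases hz with hz | hz
    · exact ⟨(hz.map f).unit, 0, by simp⟩
    · rcases hπL z hz with h | h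
      · exact ⟨h.unit, 0, by simp⟩
      · exact ⟨1, 1, by simp [h]⟩
  | one => exact ⟨1, 0, by simp⟩
  | mul x y _ _ hx hy =>
    obtain ⟨v, e, h⟩ := hx
    obtain ⟨v', e', h'⟩ := hy
    exact ⟨v * v', e + e', by rw [map_mul, h, h', Units.val_mul, pow_add]; ring⟩

end Groth.Agent.TameLib
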