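import Mathlib.RingTheory.LocalRing.ResidueField.Basic
import Mathlib.RingTheory.OrderOfVanishing.Noetherian
import Mathlib.RingTheory.OrderOfVanishing.Basic
import Mathlib.RingTheory.Coprime.Lemmas
import Mathlib.Tactic

/-! The symbol attached to factorisations `aᵢ = uᵢ π ^ eᵢ` in one local ring. -/

set_option linter.unusedSectionVars false

namespace Groth.Agent.TameLib

open IsLocalRing

universe u

variable {R : Type u} [CommRing R] [IsLocalRing R]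

/-- The value of one factorisation. -/
noncomputable def sval (π : R) (u₁ u₂ : Rˣ) (e₁ e₂ : ℕ) : ResidueField R :=
  ((-1 : ResidueField R) ^ (e₁ * e₂) * residue R (u₁ : R) ^ e₂ * (residue R (u₂ : R) ^ e₁)⁻¹) ^ (Ring.ord R π).toNat

/-- `x` is the value of some factorisation of `a` and `b`. -/
def IsSym (a b : R) (x : ResidueField R) : Prop :=
  ∃ (π : R) (u₁ u₂ : Rˣ) (e₁ e₂ : ℕ), π ∈ nonZeroDivisors R ∧ a = (u₁ : R) * π ^ e₁ ∧ b = (u₂ : R) * π ^ e₂ ∧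
    x = sval π u₁ u₂ e₁ e₂

theorem residue_unit_ne_zero (u : Rˣ) : residue R (u : R) ≠ 0 := fun h =>
  (mem_maximalIdeal _).mp ((residue_eq_zero_iff _).mp h) u.isUnit

theorem sval_ne_zero (π : R) (u₁ u₂ : Rˣ) (e₁ e₂ : ℕ) : sval π u₁ u₂ e₁ e₂ ≠ 0 :=
  pow_ne_zero _ (mul_ne_zero (mul_ne_zero (pow_ne_zero _ (neg_ne_zero.mpr one_ne_zero))
    (pow_ne_zero _ (residue_unit_ne_zero u₁))) (inv_ne_zero (pow_ne_zero _ (residue_unit_ne_zero u₂))))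

theorem IsSym.ne_zero {a b : R} {x : ResidueField R} (h : IsSym a b x) : x ≠ 0 := by
  obtain ⟨π, u₁, u₂, e₁, e₂, -, -, -, rfl⟩ := h
  exact sval_ne_zero π u₁ u₂ e₁ e₂

theorem ord_of_isUnit {π : R} (h : IsUnit π) : (Ring.ord R π).toNat = 0 := by
  rw [Ring.ord, Ideal.span_singleton_eq_top.mpr h, Module.length_eq_zero]
  rfl

theorem sval_of_trivial {π : R} {e₁ e₂ : ℕ} (u₁ u₂ : Rˣ) (h : IsUnit π ∨ (e₁ = 0 ∧ e₂ = 0)) :
    sval π u₁ u₂ e₁ e₂ = 1 := by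
  rcases h with h | ⟨rfl, rfl⟩
  · rw [sval, ord_of_isUnit h, pow_zero]
  · simp [sval]

theorem sval_congr_unit (π : R) (u₁ u₂ t : Rˣ) (e₁ e₂ : ℕ) :
    sval π (u₁ * t ^ e₁) (u₂ * t ^ e₂) e₁ e₂ = sval π u₁ u₂ e₁ e₂ := by
  have h1 := residue_unit_ne_zero u₂
  have h2 := residue_unit_ne_zero t
  unfold sval
  congr 1
  simp only [Units.val_mul, Units.val_pow_eq_pow_val, map_mul, map_pow, mul_pow, ← pow_mul, mul_comm e₂ e₁]
  field_simp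

theorem sval_scale [IsNoetherianRing R] [Ring.KrullDimLE 1 R] {π : R} (hπ : π ∈ nonZeroDivisors R) (u₁ u₂ : Rˣ)
    (g f₁ f₂ : ℕ) : sval π u₁ u₂ (g * f₁) (g * f₂) = sval (π ^ g) u₁ u₂ f₁ f₂ := by
  have hfin : Ring.ord R π ≠ ⊤ := Ring.ord_ne_top hπ
  obtain ⟨m, hm⟩ := ENat.ne_top_iff_exists.mp hfin
  have hord : (Ring.ord R (π ^ g)).toNat = g * m := by
    rw [Ring.ord_pow hπ, nsmul_eq_mul, ← hm, ← Nat.cast_mul, ENat.toNat_natCast]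
  have hsign : ((-1 : ResidueField R) ^ (g * f₁ * (g * f₂))) = ((-1 : ResidueField R) ^ (f₁ * f₂)) ^ g := by
    rw [← pow_mul]
    rcases Nat.even_or_odd g with hg | hg
    · rw [((hg.mul_right f₁).mul_right (g * f₂)).neg_one_pow, (hg.mul_left (f₁ * f₂)).neg_one_pow]
    · have e : g * f₁ * (g * f₂) = f₁ * f₂ * g * g := by ring
      rw [e, pow_mul _ (f₁ * f₂ * g) g, pow_mul _ (f₁ * f₂) g]
      rcases Nat.even_or_odd (f₁ * f₂) with hf | hf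
      · rw [hf.neg_one_pow, one_pow, one_pow]
      · rw [hf.neg_one_pow, hg.neg_one_pow, hg.neg_one_pow]
  unfold sval
  rw [hord, ← hm, ENat.toNat_natCast, hsign, pow_mul, pow_mul' (residue R (u₁ : R)) g f₂,
    pow_mul' (residue R (u₂ : R)) g f₁, ← inv_pow, ← mul_pow, ← mul_pow, ← pow_mul]

variable [IsNoetherianRing R] [Ring.KrullDimLE 1 R]

theorem eq_of_pow_eq {π : R} (hπ : π ∈ nonZeroDivisors R) (hnu : ¬ IsUnit π) {i j : ℕ} {u v : Rˣ}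
    (h : (u : R) * π ^ i = (v : R) * π ^ j) : i = j := by
  wlog hij : i ≤ j generalizing i j u v
  · exact (this h.symm (le_of_not_ge hij)).symm
  obtain ⟨d, rfl⟩ := Nat.exists_eq_add_of_le hij
  rcases Nat.eq_zero_or_pos d with rfl | hd
  · rfl
  exfalso
  have h' : (u : R) * π ^ i = ((v : R) * π ^ d) * π ^ i := by rw [h, pow_add]; ring
  have h'' := (mul_cancel_right_mem_nonZeroDivisors (pow_mem hπ i)).mp h'
  exact hnu ((isUnit_pow_iff hd.ne').mp (isUnit_of_mul_isUnit_right (h'' ▸ u.isUnit)))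

theorem isUnit_of_pow {π : R} {e : ℕ} (u : Rˣ) (he : e ≠ 0) (h : IsUnit ((u : R) * π ^ e)) : IsUnit π :=
  (isUnit_pow_iff he).mp (isUnit_of_mul_isUnit_right h)

/-- The value does not depend on the factorisation. -/
theorem sval_eq {π π' : R} (hπ : π ∈ nonZeroDivisors R) (hπ' : π' ∈ nonZeroDivisors R) {u₁ u₂ v₁ v₂ : Rˣ}
    {e₁ e₂ d₁ d₂ : ℕ} (h₁ : (u₁ : R) * π ^ e₁ = (v₁ : R) * π' ^ d₁) (h₂ : (u₂ : R) * π ^ e₂ = (v₂ : R) * π' ^ d₂) :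
    sval π u₁ u₂ e₁ e₂ = sval π' v₁ v₂ d₁ d₂ := by
  have triv : ∀ {π π' : R} {u₁ u₂ v₁ v₂ : Rˣ} {e₁ e₂ d₁ d₂ : ℕ}, (u₁ : R) * π ^ e₁ = (v₁ : R) * π' ^ d₁ →
      (u₂ : R) * π ^ e₂ = (v₂ : R) * π' ^ d₂ → (IsUnit π ∨ (e₁ = 0 ∧ e₂ = 0)) →
      IsUnit π' ∨ (d₁ = 0 ∧ d₂ = 0) := by
    intro π π' u₁ u₂ v₁ v₂ e₁ e₂ d₁ d₂ h₁ h₂ h
    by_contra hc
    push Not at hc
    obtain ⟨hnu, hd⟩ := hc
    have hu : ∀ (u : Rˣ) (e : ℕ), (e = e₁ ∨ e = e₂) → IsUnit ((u : R) * π ^ e) := fun u e he => by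
      rcases h with h | ⟨rfl, rfl⟩
      · exact u.isUnit.mul (h.pow e)
      · rcases he with rfl | rfl <;> simp
    have h1 : d₁ = 0 := by_contra fun h0 => hnu (isUnit_of_pow v₁ h0 (h₁ ▸ hu u₁ e₁ (Or.inl rfl)))
    exact hnu (isUnit_of_pow v₂ (hd h1) (h₂ ▸ hu u₂ e₂ (Or.inr rfl)))
  by_cases ht : IsUnit π ∨ (e₁ = 0 ∧ e₂ = 0)
  · rw [sval_of_trivial u₁ u₂ ht, sval_of_trivial v₁ v₂ (triv h₁ h₂ ht)]
  have ht' : ¬ (IsUnit π' ∨ (d₁ = 0 ∧ d₂ = 0)) := fun h => ht (triv h₁.symm h₂.symm h)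
  push Not at ht ht'
  have hpos : 0 < Nat.gcd e₁ e₂ := Nat.pos_of_ne_zero fun h => by
    rw [Nat.gcd_eq_zero_iff] at h
    exact ht.2 h.1 h.2
  obtain ⟨g, f₁, f₂, hg, hcop, rfl, rfl⟩ := Nat.exists_coprime' hpos
  -- the exponents are proportional
  have hcross : d₁ * f₂ = d₂ * f₁ := by
    refine eq_of_pow_eq hπ' ht'.1 (u := v₁ ^ f₂ * u₂ ^ f₁) (v := v₂ ^ f₁ * u₁ ^ f₂) ?_
    have e₁' := congrArg (· ^ f₂) h₁
    have e₂' := congrArg (· ^ f₁) h₂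
    simp only [mul_pow, ← pow_mul] at e₁' e₂'
    have hexp : f₁ * g * f₂ = f₂ * g * f₁ := by ring
    simp only [Units.val_mul, Units.val_pow_eq_pow_val]
    linear_combination -(u₂ : R) ^ f₁ * e₁' + (u₁ : R) ^ f₂ * e₂' +
      (u₁ : R) ^ f₂ * (u₂ : R) ^ f₁ * congrArg (fun n => π ^ n) hexp
  obtain ⟨g', rfl, rfl⟩ : ∃ g', d₁ = g' * f₁ ∧ d₂ = g' * f₂ := by
    obtain ⟨k, hk⟩ : f₁ ∣ d₁ := (Nat.Coprime.dvd_of_dvd_mul_right hcop ⟨d₂, by rw [hcross]; ring⟩)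
    rcases Nat.eq_zero_or_pos f₁ with rfl | hf
    · rw [Nat.coprime_zero_left] at hcop
      subst hcop
      exact ⟨d₂, by simpa using hk, (mul_one d₂).symm⟩
    · refine ⟨k, by rw [hk, mul_comm], ?_⟩
      rw [hk] at hcross
      exact Nat.eq_of_mul_eq_mul_left hf (by linarith)
  -- `ρ = π ^ g` and `ρ' = π' ^ g'` differ by a unit
  set ρ := π ^ g with hρ
  set ρ' := π' ^ g' with hρ'
  have k₁ : (u₁ : R) * ρ ^ f₁ = (v₁ : R) * ρ' ^ f₁ := by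
    rw [← pow_mul, ← pow_mul, mul_comm g f₁]; exact h₁
  have k₂ : (u₂ : R) * ρ ^ f₂ = (v₂ : R) * ρ' ^ f₂ := by
    rw [← pow_mul, ← pow_mul, mul_comm g f₂]; exact h₂
  obtain ⟨t, ht₀⟩ : ∃ t : Rˣ, ρ' = (t : R) * ρ := by
    have hρm : ∀ k, ρ ^ k ∈ nonZeroDivisors R := fun k => pow_mem (pow_mem hπ g) k
    rcases Nat.eq_zero_or_pos f₂ with h0 | h0
    · subst h0
      rw [Nat.coprime_zero_right] at hcop
      subst hcop
      refine ⟨v₁⁻¹ * u₁, ?_⟩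
      rw [pow_one, pow_one] at k₁
      rw [Units.val_mul, mul_assoc, k₁, Units.inv_mul_cancel_left]
    rcases Nat.eq_zero_or_pos f₁ with h1 | h1
    · subst h1
      rw [Nat.coprime_zero_left] at hcop
      subst hcop
      refine ⟨v₂⁻¹ * u₂, ?_⟩
      rw [pow_one, pow_one] at k₂
      rw [Units.val_mul, mul_assoc, k₂, Units.inv_mul_cancel_left]
    obtain ⟨i, j, hij⟩ : ∃ i j : ℕ, i * f₁ = 1 + j * f₂ := by
      obtain ⟨x, y, hxy⟩ := (Nat.isCoprime_iff_coprime.mpr hcop : IsCoprime (f₁ : ℤ) f₂)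
      obtain ⟨N, hN⟩ : ∃ N : ℕ, 0 ≤ x + N * (f₂ : ℤ) ∧ 0 ≤ -y + N * (f₁ : ℤ) := by
        refine ⟨(|x| + |y|).toNat, ?_⟩
        have hN : (((|x| + |y|).toNat : ℕ) : ℤ) = |x| + |y| := Int.toNat_of_nonneg (by positivity)
        rw [hN]
        have hf2 : (1 : ℤ) ≤ f₂ := by exact_mod_cast h0
        refine ⟨by nlinarith [neg_abs_le x, abs_nonneg y, abs_nonneg x], ?_⟩
        have hf1 : (1 : ℤ) ≤ f₁ := by exact_mod_cast h1
        nlinarith [le_abs_self y, abs_nonneg y, abs_nonneg x]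
      refine ⟨(x + N * (f₂ : ℤ)).toNat, (-y + N * (f₁ : ℤ)).toNat, ?_⟩
      zify
      rw [Int.toNat_of_nonneg hN.1, Int.toNat_of_nonneg hN.2]
      linarith
    refine ⟨v₁⁻¹ ^ i * u₁ ^ i * (v₂ ^ j * u₂⁻¹ ^ j), (mul_cancel_right_mem_nonZeroDivisors
      (show ρ' ^ (j * f₂) ∈ nonZeroDivisors R from pow_mem (pow_mem hπ' g') _)).mp ?_⟩
    have a1 : ρ' ^ (i * f₁) = ((v₁⁻¹ * u₁ : Rˣ) : R) ^ i * ρ ^ (i * f₁) := by
      rw [mul_comm i f₁, pow_mul, pow_mul, ← mul_pow, Units.val_mul, mul_assoc, k₁, Units.inv_mul_cancel_left]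
    have a2 : ρ ^ (j * f₂) = ((u₂⁻¹ * v₂ : Rˣ) : R) ^ j * ρ' ^ (j * f₂) := by
      rw [mul_comm j f₂, pow_mul, pow_mul, ← mul_pow, Units.val_mul, mul_assoc, ← k₂, Units.inv_mul_cancel_left]
    calc ρ' * ρ' ^ (j * f₂) = ρ' ^ (i * f₁) := by rw [hij, pow_add, pow_one]
      _ = ((v₁⁻¹ * u₁ : Rˣ) : R) ^ i * (ρ * (((u₂⁻¹ * v₂ : Rˣ) : R) ^ j * ρ' ^ (j * f₂))) := by
          rw [a1, hij, pow_add, pow_one, a2]
      _ = _ := by simp only [Units.val_mul, Units.val_pow_eq_pow_val, mul_pow]; ring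
  have hu : ∀ (f : ℕ) (u v : Rˣ), (u : R) * ρ ^ f = (v : R) * ρ' ^ f → u = v * t ^ f := fun f u v h => by
    refine Units.ext ((mul_cancel_right_mem_nonZeroDivisors (pow_mem (pow_mem hπ g) f)).mp (h.trans ?_))
    rw [ht₀, mul_pow, Units.val_mul, Units.val_pow_eq_pow_val]
    ring
  have hord : (Ring.ord R ρ').toNat = (Ring.ord R ρ).toNat := by
    rw [ht₀, Ring.ord_mul_of_isUnit_left t.isUnit]
  rw [mul_comm f₁ g, mul_comm f₂ g, sval_scale hπ u₁ u₂ g f₁ f₂, sval_scale hπ' v₁ v₂ g' f₁ f₂, ← hρ, ← hρ',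
    hu f₁ u₁ v₁ k₁, hu f₂ u₂ v₂ k₂, sval_congr_unit]
  rw [sval, sval, hord]

theorem IsSym.unique {a b : R} {x y : ResidueField R} (h : IsSym a b x) (h' : IsSym a b y) : x = y := by
  obtain ⟨π, u₁, u₂, e₁, e₂, hπ, ha, hb, rfl⟩ := h
  obtain ⟨π', v₁, v₂, d₁, d₂, hπ', ha', hb', rfl⟩ := h'
  exact sval_eq hπ hπ' (ha ▸ ha') (hb ▸ hb')

theorem isSym_units (u₁ u₂ : Rˣ) : IsSym (u₁ : R) (u₂ : R) (1 : ResidueField R) :=
  ⟨1, u₁, u₂, 0, 0, one_mem _, by simp, by simp, (sval_of_trivial u₁ u₂ (Or.inr ⟨rfl, rfl⟩)).symm⟩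

end Groth.Agent.TameLib
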