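import Groth.Agent.TameLib.Decomp
import Groth.Agent.TameLib.LocSym
import Mathlib.RingTheory.Norm.Transitivity

/-! The product of norms of local symbols is unchanged in a birational extension. -/

set_option linter.unusedSectionVars false
set_option linter.style.haveILetI false

namespace Groth.Agent.TameLib

open IsLocalRing

universe u

variable {A : Type u} [CommRing A] [IsLocalRing A] {B : Type u} [CommRing B] [Algebra A B] [Module.Finite A B]

/-- The norm to the residue field of the base. -/
noncomputable def nrm (A : Type u) [CommRing A] [IsLocalRing A] {B : Type u} [CommRing B] [Algebra A B]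
    [Module.Finite A B] (q : MaximalSpectrum B) :
    ResidueField (Localization.AtPrime q.asIdeal) →* ResidueField A :=
  haveI := isLocalHom_atPrime (A := A) q.asIdeal
  Algebra.norm (ResidueField A)

/-- A local symbol at every maximal ideal and the product `v` of the norms. -/
def Val (A : Type u) [CommRing A] [IsLocalRing A] (a b : A) (B : Type u) [CommRing B] [Algebra A B]
    [Module.Finite A B] (v : ResidueField A) : Prop :=
  ∃ x : ∀ q : MaximalSpectrum B, ResidueField (Localization.AtPrime q.asIdeal),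
    (∀ q, IsSym (algebraMap A (Localization.AtPrime q.asIdeal) a) (algebraMap A (Localization.AtPrime q.asIdeal) b)
      (x q)) ∧ v = ∏ᶠ q, nrm A q (x q)

variable [IsNoetherianRing A] [Ring.KrullDimLE 1 A]

theorem krullDimLE_atPrime [Ring.KrullDimLE 1 B] (q : Ideal B) [q.IsPrime] :
    Ring.KrullDimLE 1 (Localization.AtPrime q) := by
  rw [Ring.KrullDimLE, Order.krullDimLE_iff]
  exact (IsLocalization.AtPrime.ringKrullDim_eq_height q (Localization.AtPrime q)).trans_le
    (Ideal.height_le_ringKrullDim_of_ne_top (Ideal.IsPrime.ne_top ‹_›) |>.trans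
      (Order.KrullDimLE.krullDim_le (n := 1) (α := PrimeSpectrum B)))

theorem exists_pow_maximalIdeal_le {R : Type u} [CommRing R] [IsLocalRing R] [IsNoetherianRing R]
    [Ring.KrullDimLE 1 R] {z : R} (hz : z ∈ nonZeroDivisors R) :
    ∃ N, maximalIdeal R ^ N ≤ Ideal.span {z} := by
  by_cases hu : IsUnit z
  · exact ⟨0, by rw [Ideal.span_singleton_eq_top.mpr hu]; exact le_top⟩
  have : Nontrivial (R ⧸ Ideal.span {z}) := Ideal.Quotient.nontrivial_iff.2 fun h =>
    hu (Ideal.span_singleton_eq_top.mp h)
  have : IsLocalRing (R ⧸ Ideal.span {z}) := .of_surjective' _ Ideal.Quotient.mk_surjective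
  have : IsArtinianRing (R ⧸ Ideal.span {z}) := isArtinian_of_tower R
    (isFiniteLength_iff_isNoetherian_isArtinian.mp (isFiniteLength_quotient_span_singleton R hz)).2
  obtain ⟨N, hN⟩ := ((isArtinianRing_iff_isNilpotent_maximalIdeal _).mp this)
  rw [← IsLocalRing.map_maximalIdeal_of_surjective (Ideal.Quotient.mk _) Ideal.Quotient.mk_surjective,
    ← Ideal.map_pow, Ideal.zero_eq_bot, Ideal.map_eq_bot_iff_le_ker, Ideal.mk_ker] at hN
  exact ⟨N, hN⟩

/-- An element associated to `z` at `q` and a unit at the other maximal ideals. -/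
theorem exists_concentrated [IsNoetherianRing B] [Ring.KrullDimLE 1 B] [Fintype (MaximalSpectrum B)] (q : MaximalSpectrum B) {z : B}
    (hz : algebraMap B (Localization.AtPrime q.asIdeal) z ∈ nonZeroDivisors (Localization.AtPrime q.asIdeal)) :
    ∃ x : B, x ∈ nonZeroDivisors B ∧ (∀ q' : MaximalSpectrum B, q' ≠ q → x ∉ q'.asIdeal) ∧
      ∃ v : (Localization.AtPrime q.asIdeal)ˣ, algebraMap B (Localization.AtPrime q.asIdeal) x =
        algebraMap B (Localization.AtPrime q.asIdeal) z * v := by
  classical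
  let R := Localization.AtPrime q.asIdeal
  have : Ring.KrullDimLE 1 R := krullDimLE_atPrime q.asIdeal
  have : IsNoetherianRing R := IsLocalization.isNoetherianRing q.asIdeal.primeCompl _ inferInstance
  obtain ⟨N, hN⟩ := exists_pow_maximalIdeal_le hz
  have hcop : Pairwise fun i j : MaximalSpectrum B => IsCoprime (i.asIdeal ^ (N + 1)) (j.asIdeal ^ (N + 1)) :=
    fun i j hij => (Ideal.isCoprime_iff_sup_eq.2
      (i.isMaximal.coprime_of_ne j.isMaximal fun h => hij (MaximalSpectrum.ext h))).pow
  obtain ⟨e, he⟩ := Ideal.exists_forall_sub_mem_ideal hcop fun q' => if q' = q then (1 : B) else 0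
  have he1 : e - 1 ∈ q.asIdeal ^ (N + 1) := by simpa using he q
  have hother : ∀ q' : MaximalSpectrum B, q' ≠ q → z * e + (1 - e) ∉ q'.asIdeal := fun q' h hmem => by
    have h0 : e ∈ q'.asIdeal := Ideal.pow_le_self (Nat.succ_ne_zero N) (by simpa [h] using he q')
    refine q'.isMaximal.ne_top ((Ideal.eq_top_iff_one _).mpr ?_)
    rw [show (1 : B) = (z * e + (1 - e)) + (e - z * e) by ring]
    exact add_mem hmem (sub_mem h0 (q'.asIdeal.mul_mem_left z h0))
  have hle : (q.asIdeal ^ (N + 1)).map (algebraMap B R) ≤ Ideal.span {algebraMap B R z} * maximalIdeal R := by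
    rw [Ideal.map_pow, pow_succ]
    refine Ideal.mul_mono ((Ideal.pow_right_mono ?_ N).trans hN) ?_ <;>
      exact (Localization.AtPrime.map_eq_maximalIdeal).le
  obtain ⟨w, hw, hw'⟩ := Ideal.mem_span_singleton_mul.mp (hle (Ideal.mem_map_of_mem _ he1))
  have hunit : IsUnit (algebraMap B R e - w) := by
    refine notMem_maximalIdeal.mp fun h => ?_
    have h1 : algebraMap B R e ∈ maximalIdeal R := by simpa using add_mem h hw
    have h2 : e ∈ q.asIdeal := (IsLocalization.AtPrime.to_map_mem_maximal_iff R q.asIdeal e).mp h1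
    refine q.isMaximal.ne_top ((Ideal.eq_top_iff_one _).mpr ?_)
    rw [show (1 : B) = e - (e - 1) by ring]
    exact sub_mem h2 (Ideal.pow_le_self (Nat.succ_ne_zero N) he1)
  have hx : algebraMap B R (z * e + (1 - e)) = algebraMap B R z * hunit.unit := by
    rw [IsUnit.unit_spec, mul_sub, hw', map_add, map_mul, map_sub, map_sub, map_one]
    ring
  refine ⟨z * e + (1 - e), ?_, hother, hunit.unit, hx⟩
  refine mem_nonZeroDivisors_iff_right.mpr fun y hy => ?_
  let I : Ideal B := LinearMap.ker (LinearMap.toSpanSingleton B B y)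
  suffices I = ⊤ by
    simpa [I] using (show (1 : B) ∈ I by rw [this]; trivial)
  by_contra hne
  obtain ⟨p, hp, hle'⟩ := Ideal.exists_le_maximal I hne
  have hp0 : ∀ s, s * y = 0 → s ∈ p := fun s hs => hle' (by simpa [I] using hs)
  by_cases hpq : (⟨p, hp⟩ : MaximalSpectrum B) = q
  · have h0 : algebraMap B R y = 0 := by
      refine (mul_right_mem_nonZeroDivisors_eq_zero_iff (mul_mem hz hunit.mem_nonZeroDivisors)).mp ?_
      have h3 := congrArg (algebraMap B R) hy
      rw [map_mul, map_zero, hx, IsUnit.unit_spec] at h3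
      exact h3
    obtain ⟨s, hs⟩ := (IsLocalization.map_eq_zero_iff q.asIdeal.primeCompl R y).mp h0
    have hp' : p = q.asIdeal := congrArg MaximalSpectrum.asIdeal hpq
    exact s.2 (hp' ▸ hp0 s hs)
  · exact hother ⟨p, hp⟩ hpq (hp0 _ (by rw [mul_comm]; exact hy))

variable {C : Type u} [CommRing C] [Algebra A C] [Module.Finite A C]

/-- The maximal ideal below. -/
def down' (φ : B →ₐ[A] C) (r : MaximalSpectrum C) : MaximalSpectrum B :=
  ⟨r.asIdeal.comap φ.toRingHom, by
    let _ := φ.toRingHom.toAlgebra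
    have : IsScalarTower A B C := IsScalarTower.of_algebraMap_eq fun a => (φ.commutes a).symm
    have : Algebra.IsIntegral B C := (Algebra.IsIntegral.of_finite A C).tower_top (R := A)
    have := r.isMaximal
    exact Ideal.isMaximal_comap_of_isIntegral_of_isMaximal (R := B) r.asIdeal⟩

/-- The local homomorphism over `φ`. -/
noncomputable def locMap (φ : B →ₐ[A] C) (r : MaximalSpectrum C) :
    Localization.AtPrime (down' φ r).asIdeal →+* Localization.AtPrime r.asIdeal :=
  Localization.localRingHom (down' φ r).asIdeal r.asIdeal φ.toRingHom rfl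

theorem locMap_to_map (φ : B →ₐ[A] C) (r : MaximalSpectrum C) (x : B) :
    locMap φ r (algebraMap B (Localization.AtPrime (down' φ r).asIdeal) x) =
      algebraMap C (Localization.AtPrime r.asIdeal) (φ x) :=
  Localization.localRingHom_to_map (down' φ r).asIdeal r.asIdeal φ.toRingHom rfl x

theorem locMap_alg (φ : B →ₐ[A] C) (r : MaximalSpectrum C) (a : A) :
    locMap φ r (algebraMap A _ a) = algebraMap A _ a := by
  rw [IsScalarTower.algebraMap_apply A B, locMap]
  erw [Localization.localRingHom_to_map]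
  rw [
    IsScalarTower.algebraMap_apply A C (Localization.AtPrime r.asIdeal), AlgHom.toRingHom_eq_coe, RingHom.coe_coe,
    φ.commutes]

theorem sum_deg_ord {n : ℕ} (φ : B →ₐ[A] C) (hφ : Function.Injective φ)
    (h : ∀ r ∈ maximalIdeal A ^ n, ∀ c : C, r • c ∈ LinearMap.range φ.toLinearMap)
    (hreg : ∀ y ∈ nonZeroDivisors B, φ y ∈ nonZeroDivisors C)
    [Fintype (MaximalSpectrum B)] [Fintype (MaximalSpectrum C)] [DecidableEq (MaximalSpectrum B)]
    (q : MaximalSpectrum B) {π : Localization.AtPrime q.asIdeal}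
    (hπ : π ∈ nonZeroDivisors (Localization.AtPrime q.asIdeal))
    (π' : ∀ r : MaximalSpectrum C, down' φ r = q → Localization.AtPrime r.asIdeal)
    (hπ' : ∀ (r : MaximalSpectrum C) (hr : down' φ r = q), ∀ (a : B) (s : q.asIdeal.primeCompl),
      π * algebraMap B _ (s : B) = algebraMap B _ a →
        π' r hr * algebraMap C _ (φ (s : B)) = algebraMap C _ (φ a)) :
    (∀ r hr, π' r hr ∈ nonZeroDivisors (Localization.AtPrime r.asIdeal)) ∧
      ∑ r : MaximalSpectrum C, (if hr : down' φ r = q then
        (deg A r : ℕ∞) * Ring.ord (Localization.AtPrime r.asIdeal) (π' r hr) else 0) =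
      (deg A q : ℕ∞) * Ring.ord (Localization.AtPrime q.asIdeal) π := by
  have : IsNoetherianRing B := IsNoetherianRing.of_finite A B
  obtain ⟨⟨z, s⟩, hzs⟩ := IsLocalization.surj q.asIdeal.primeCompl π
  have hs : IsUnit (algebraMap B (Localization.AtPrime q.asIdeal) s) :=
    IsLocalization.map_units _ s
  have : Ring.KrullDimLE 1 B := krullDimLE_one (A := A)
  obtain ⟨x, hx, hxo, v, hv⟩ := exists_concentrated q (z := z) (by
    rw [← hzs]; exact mul_mem hπ hs.mem_nonZeroDivisors)
  obtain ⟨⟨v₁, v₂⟩, hv'⟩ := IsLocalization.surj q.asIdeal.primeCompl (v : Localization.AtPrime q.asIdeal)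
  have hv1 : v₁ ∉ q.asIdeal := fun h => by
    have h1 := (IsLocalization.AtPrime.to_map_mem_maximal_iff (Localization.AtPrime q.asIdeal) q.asIdeal v₁).mpr h
    rw [← hv', mem_maximalIdeal] at h1
    exact h1 (v.isUnit.mul (IsLocalization.map_units _ v₂))
  -- the same equation over `C`
  have hvz : ∃ t : q.asIdeal.primeCompl, (t : B) * (x * v₂) = t * (z * v₁) := by
    refine (IsLocalization.eq_iff_exists q.asIdeal.primeCompl (Localization.AtPrime q.asIdeal)).mp ?_
    rw [map_mul, map_mul, hv, ← hv']
    ring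
  obtain ⟨t, ht⟩ := hvz
  have hordB : Ring.ord (Localization.AtPrime q.asIdeal) (algebraMap B _ x) =
      Ring.ord (Localization.AtPrime q.asIdeal) π := by
    rw [hv, ← hzs, Ring.ord_mul_of_isUnit_right v.isUnit, Ring.ord_mul_of_isUnit_right hs]
  have hu : ∀ r : MaximalSpectrum C, down' φ r = q → ∀ b : B, b ∉ q.asIdeal →
      IsUnit (algebraMap C (Localization.AtPrime r.asIdeal) (φ b)) := fun r hr b hb => by
    refine (IsLocalization.AtPrime.isUnit_to_map_iff _ r.asIdeal _).mpr fun h' => hb ?_
    rw [← hr]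
    exact h'
  have hxr : φ x ∈ nonZeroDivisors C := hreg x hx
  have hrel : ∀ r hr, π' r hr * (algebraMap C _ (φ (s : B)) * algebraMap C _ (φ v₁)) =
      algebraMap C (Localization.AtPrime r.asIdeal) (φ x) * algebraMap C _ (φ (v₂ : B)) := fun r hr => by
    rw [← mul_assoc, hπ' r hr z s hzs, ← map_mul, ← map_mul, ← map_mul, ← map_mul]
    refine (hu r hr t t.2).mul_right_inj.mp ?_
    simp only [← map_mul]
    rw [ht]
  have hord : ∀ r hr, π' r hr ∈ nonZeroDivisors (Localization.AtPrime r.asIdeal) ∧
      Ring.ord (Localization.AtPrime r.asIdeal) (π' r hr) =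
        Ring.ord (Localization.AtPrime r.asIdeal) (algebraMap C _ (φ x)) := fun r hr => by
    have h1 : IsUnit (algebraMap C (Localization.AtPrime r.asIdeal) (φ (s : B)) * algebraMap C _ (φ v₁)) :=
      (hu r hr s s.2).mul (hu r hr v₁ hv1)
    have h2 : IsUnit (algebraMap C (Localization.AtPrime r.asIdeal) (φ (v₂ : B))) := hu r hr v₂ v₂.2
    refine ⟨?_, by rw [← Ring.ord_mul_of_isUnit_right h1 (π' r hr), hrel r hr,
      Ring.ord_mul_of_isUnit_right h2]⟩
    suffices h3 : π' r hr * (algebraMap C (Localization.AtPrime r.asIdeal) (φ (s : B)) * algebraMap C _ (φ v₁)) ∈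
        nonZeroDivisors (Localization.AtPrime r.asIdeal) from (mul_mem_nonZeroDivisors.mp h3).1
    rw [hrel r hr]
    exact mul_mem (IsLocalization.map_nonZeroDivisors_le r.asIdeal.primeCompl _ ⟨_, hxr, rfl⟩)
      h2.mem_nonZeroDivisors
  refine ⟨fun r hr => (hord r hr).1, ?_⟩
  have hC := wt_eq_sum (A := A) hxr
  have hB := wt_eq_sum (A := A) hx
  rw [wt_map φ hφ h hx hxr, hB, Finset.sum_eq_single q] at hC
  · rw [← hordB, hC]
    refine Finset.sum_congr rfl fun r _ => ?_
    split_ifs with hr
    · rw [(hord r hr).2]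
    · have hnot : φ x ∉ r.asIdeal := fun h' => hxo _ hr h'
      rw [Ring.ord, Ideal.span_singleton_eq_top.mpr
        ((IsLocalization.AtPrime.isUnit_to_map_iff _ r.asIdeal _).mpr hnot), Module.length_eq_zero, mul_zero]
  · intro q' _ hq'
    rw [Ring.ord, Ideal.span_singleton_eq_top.mpr
      ((IsLocalization.AtPrime.isUnit_to_map_iff _ q'.asIdeal _).mpr (hxo q' hq')), Module.length_eq_zero, mul_zero]
  · exact fun h' => absurd (Finset.mem_univ _) h'

theorem nrm_map (φ : B →ₐ[A] C) (r : MaximalSpectrum C) :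
    haveI : IsLocalHom (locMap φ r) := Localization.isLocalHom_localRingHom _ _ _ rfl
    ∃ d : ℕ, deg A r = deg A (down' φ r) * d ∧ ∀ z, nrm A r (ResidueField.map (locMap φ r) z) =
      nrm A (down' φ r) z ^ d := by
  haveI : IsLocalHom (locMap φ r) := Localization.isLocalHom_localRingHom _ _ _ rfl
  haveI := isLocalHom_atPrime (A := A) r.asIdeal
  haveI := isLocalHom_atPrime (A := A) (down' φ r).asIdeal
  haveI := finite_residueField (A := A) r
  haveI := finite_residueField (A := A) (down' φ r)
  let K := ResidueField (Localization.AtPrime (down' φ r).asIdeal)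
  let L := ResidueField (Localization.AtPrime r.asIdeal)
  let _ : Algebra K L := (ResidueField.map (locMap φ r)).toAlgebra
  haveI : IsScalarTower (ResidueField A) K L := IsScalarTower.of_algebraMap_eq fun x => by
    obtain ⟨a, rfl⟩ := residue_surjective x
    show _ = ResidueField.map (locMap φ r) (residue _ (algebraMap A _ a))
    rw [ResidueField.map_residue, locMap_alg]
    rfl
  haveI : Module.Finite K L := Module.Finite.of_restrictScalars_finite (ResidueField A) K L
  refine ⟨Module.finrank K L, (Module.finrank_mul_finrank (ResidueField A) K L).symm, fun z => ?_⟩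
  show Algebra.norm (ResidueField A) (algebraMap K L z) = _
  rw [← Algebra.norm_norm (R := ResidueField A) (S := K), Algebra.norm_algebraMap, map_pow]
  rfl

/-- Invariance in birational extensions. -/
theorem Val.map {a b : A} {v : ResidueField A} (hv : Val A a b B v) {n : ℕ} (φ : B →ₐ[A] C)
    (hφ : Function.Injective φ) (h : ∀ r ∈ maximalIdeal A ^ n, ∀ c : C, r • c ∈ LinearMap.range φ.toLinearMap)
    (hreg : ∀ y ∈ nonZeroDivisors B, φ y ∈ nonZeroDivisors C) : Val A a b C v := by
  classical
  have := finite_maximalSpectrum A B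
  have := finite_maximalSpectrum A C
  have := Fintype.ofFinite (MaximalSpectrum B)
  have := Fintype.ofFinite (MaximalSpectrum C)
  have : IsNoetherianRing B := IsNoetherianRing.of_finite A B
  have : Ring.KrullDimLE 1 B := krullDimLE_one (A := A)
  obtain ⟨x, hx, rfl⟩ := hv
  choose π u₁ u₂ e₁ e₂ hπ ha hb hval using hx
  haveI hloc : ∀ r : MaximalSpectrum C, IsLocalHom (locMap φ r) := fun r =>
    Localization.isLocalHom_localRingHom _ _ _ rfl
  let base : ∀ q : MaximalSpectrum B, ResidueField (Localization.AtPrime q.asIdeal) := fun q =>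
    (-1) ^ (e₁ q * e₂ q) * residue _ (u₁ q : Localization.AtPrime q.asIdeal) ^ e₂ q *
      (residue _ (u₂ q : Localization.AtPrime q.asIdeal) ^ e₁ q)⁻¹
  let ρ : ∀ r : MaximalSpectrum C, Localization.AtPrime r.asIdeal := fun r => locMap φ r (π (down' φ r))
  have hsum : ∀ q, (∀ r, down' φ r = q → ρ r ∈ nonZeroDivisors (Localization.AtPrime r.asIdeal)) ∧
      ∑ r, (if down' φ r = q then (deg A r : ℕ∞) * Ring.ord (Localization.AtPrime r.asIdeal) (ρ r) else 0) =
        (deg A q : ℕ∞) * Ring.ord (Localization.AtPrime q.asIdeal) (π q) := fun q => by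
    obtain ⟨h1, h2⟩ := sum_deg_ord φ hφ h hreg q (hπ q) (fun r _ => ρ r) (by
      rintro r rfl a' s hs
      have h3 := congrArg (locMap φ r) hs
      rw [map_mul, locMap_to_map, locMap_to_map] at h3
      exact h3)
    exact ⟨h1, by simpa only [dite_eq_ite] using h2⟩
  refine ⟨fun r => sval (ρ r) (Units.map (locMap φ r) (u₁ (down' φ r))) (Units.map (locMap φ r) (u₂ (down' φ r)))
    (e₁ (down' φ r)) (e₂ (down' φ r)), fun r => ⟨ρ r, _, _, _, _, (hsum _).1 r rfl, ?_, ?_, rfl⟩, ?_⟩
  · rw [← locMap_alg φ r, ha (down' φ r), map_mul, map_pow]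
    rfl
  · rw [← locMap_alg φ r, hb (down' φ r), map_mul, map_pow]
    rfl
  rw [finprod_eq_prod_of_fintype, finprod_eq_prod_of_fintype,
    ← Finset.prod_fiberwise_of_maps_to (s := Finset.univ) (t := Finset.univ) (g := down' φ)
      (fun _ _ => Finset.mem_univ _)]
  refine Finset.prod_congr rfl fun q _ => ?_
  choose d hd hn using fun r => nrm_map (A := A) φ r
  have hterm : ∀ r, down' φ r = q → nrm A r (sval (ρ r) (Units.map (locMap φ r) (u₁ (down' φ r)))
      (Units.map (locMap φ r) (u₂ (down' φ r))) (e₁ (down' φ r)) (e₂ (down' φ r))) =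
      nrm A q (base q) ^ (d r * (Ring.ord (Localization.AtPrime r.asIdeal) (ρ r)).toNat) := by
    rintro r rfl
    rw [pow_mul, ← hn r (base _), ← map_pow]
    congr 1
    simp only [sval, base, map_mul, map_pow, map_inv₀, map_neg, map_one]
    rfl
  rw [Finset.prod_congr rfl fun r hr => hterm r (Finset.mem_filter.mp hr).2, Finset.prod_pow_eq_pow_sum, hval q,
    show sval (π q) (u₁ q) (u₂ q) (e₁ q) (e₂ q) = base q ^ (Ring.ord (Localization.AtPrime q.asIdeal) (π q)).toNat
      from rfl, map_pow]
  congr 1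
  have hBq : Ring.KrullDimLE 1 (Localization.AtPrime q.asIdeal) := krullDimLE_atPrime q.asIdeal
  have : IsNoetherianRing (Localization.AtPrime q.asIdeal) :=
    IsLocalization.isNoetherianRing q.asIdeal.primeCompl _ inferInstance
  have h1 := (hsum q).2
  rw [← Finset.sum_filter] at h1
  obtain ⟨m, hm⟩ := ENat.ne_top_iff_exists.mp (Ring.ord_ne_top (hπ q))
  have hne : ∀ r ∈ (Finset.univ.filter fun r => down' φ r = q),
      Ring.ord (Localization.AtPrime r.asIdeal) (ρ r) ≠ ⊤ := fun r hr htop => by
    have h2 := Finset.single_le_sum (f := fun r => (deg A r : ℕ∞) * Ring.ord (Localization.AtPrime r.asIdeal) (ρ r))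
      (fun _ _ => bot_le) hr
    rw [h1, htop, ENat.mul_top (Nat.cast_ne_zero.mpr (deg_pos r).ne'), ← hm, ← Nat.cast_mul, top_le_iff] at h2
    exact ENat.natCast_ne_top _ h2
  refine (Nat.eq_of_mul_eq_mul_left (deg_pos (A := A) q) ?_).symm
  rw [Finset.mul_sum]
  refine Nat.cast_injective (R := ℕ∞) ?_
  rw [Nat.cast_mul, ENat.natCast_toNat (Ring.ord_ne_top (hπ q)), ← h1, Nat.cast_sum]
  refine Finset.sum_congr rfl fun r hr => ?_
  rw [← mul_assoc, Nat.cast_mul, ENat.natCast_toNat (hne r hr),
    show deg A q * d r = deg A r by rw [hd r, (Finset.mem_filter.mp hr).2]]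

end Groth.Agent.TameLib
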