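import Groth.Prelude.Def_Tame
import Groth.Agent.TameLib.Push
import Mathlib.RingTheory.Localization.Away.Basic
import Mathlib.RingTheory.Localization.Integer

/-! The value of tame data does not depend on the data. -/

set_option linter.unusedSectionVars false
set_option linter.style.haveILetI false

namespace Groth.Agent.TameLib

open IsLocalRing

universe u

variable {A : Type u} [CommRing A] [IsLocalRing A] [IsNoetherianRing A] [Ring.KrullDimLE 1 A]
  {B : Type u} [CommRing B] [Algebra A B] [Module.Finite A B]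

theorem mem_nonZeroDivisors_of_local {y : B}
    (h : ∀ q : MaximalSpectrum B, algebraMap B (Localization.AtPrime q.asIdeal) y ∈
      nonZeroDivisors (Localization.AtPrime q.asIdeal)) : y ∈ nonZeroDivisors B := by
  refine mem_nonZeroDivisors_iff_right.mpr fun z hz => ?_
  let I : Ideal B := LinearMap.ker (LinearMap.toSpanSingleton B B z)
  suffices I = ⊤ by
    simpa [I] using (show (1 : B) ∈ I by rw [this]; trivial)
  by_contra hne
  obtain ⟨p, hp, hle⟩ := Ideal.exists_le_maximal I hne
  have h0 : algebraMap B (Localization.AtPrime p) z = 0 := by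
    refine (mul_right_mem_nonZeroDivisors_eq_zero_iff (h ⟨p, hp⟩)).mp ?_
    show algebraMap B (Localization.AtPrime p) z * algebraMap B (Localization.AtPrime p) y = 0
    rw [← map_mul, hz, map_zero]
  obtain ⟨s, hs⟩ := (IsLocalization.map_eq_zero_iff p.primeCompl (Localization.AtPrime p) z).mp h0
  exact s.2 (hle (by simpa [I] using hs))

/-- A non-unit regular element which stays regular makes an extension good. -/
theorem good_of_regular (hB : CycAlg.IsFinExt A B (maximalIdeal A)) {g : A} (hg : g ∈ maximalIdeal A)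
    (hgB : algebraMap A B g ∈ nonZeroDivisors B) : Good A B := by
  refine ⟨hB, fun y hy => ?_⟩
  obtain ⟨N, hN⟩ := exists_pow_le (A := A) (B := A) hy
  obtain ⟨w, hw⟩ := Ideal.mem_span_singleton'.mp (hN (Ideal.pow_mem_pow hg N))
  have h : algebraMap A B w * algebraMap A B y ∈ nonZeroDivisors B := by
    rw [← map_mul, hw, map_pow]
    exact pow_mem hgB N
  exact (mul_mem_nonZeroDivisors.mp h).2

/-- An extension lies in `A[1/g]`. -/
theorem exists_embedding (hB : Good A B) {g : A} (hg : g ∈ maximalIdeal A) (hgA : g ∈ nonZeroDivisors A) :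
    ∃ φ : B →ₐ[A] Localization.Away g, Function.Injective φ ∧
      ∀ y ∈ nonZeroDivisors B, φ y ∈ nonZeroDivisors (Localization.Away g) := by
  let gB := algebraMap A B g
  let K := Localization.Away g
  let L := Localization.Away gB
  have hgL : IsUnit (algebraMap A L g) := by
    rw [IsScalarTower.algebraMap_apply A B L]
    exact IsLocalization.Away.algebraMap_isUnit gB
  let ψ₀ : K →+* L := IsLocalization.Away.lift g hgL
  let ψ : K →ₐ[A] L := { ψ₀ with commutes' := fun a => IsLocalization.Away.lift_eq g hgL a }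
  obtain ⟨hinjA, -, k, hk⟩ := hB.fin
  have hpow : Submonoid.powers gB ≤ nonZeroDivisors B := Submonoid.powers_le.mpr (hB.reg g hgA)
  have hAL : Function.Injective (algebraMap A L) := by
    rw [IsScalarTower.algebraMap_eq A B L]
    exact (IsLocalization.injective L hpow).comp hinjA
  have hinj : Function.Injective ψ := by
    rw [injective_iff_map_eq_zero]
    intro z hz
    obtain ⟨n, a, ha⟩ := IsLocalization.Away.surj g z
    have h1 := congrArg ψ ha
    rw [map_mul, hz, zero_mul, AlgHom.commutes] at h1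
    rw [show a = 0 from hAL (h1.symm.trans (map_zero _).symm), map_zero] at ha
    exact ((IsLocalization.Away.algebraMap_isUnit g).pow n).mul_left_eq_zero.mp ha
  have hsurj : Function.Surjective ψ := by
    intro z
    obtain ⟨n, b, hb⟩ := IsLocalization.Away.surj gB z
    obtain ⟨α, hα⟩ := hk (g ^ k) (Ideal.pow_mem_pow hg k) b
    refine ⟨algebraMap A K α * ↑((IsLocalization.Away.algebraMap_isUnit (S := K) g).unit⁻¹ ^ (k + n)), ?_⟩
    refine (hgL.pow (k + n)).mul_right_cancel ?_
    rw [map_mul, AlgHom.commutes, IsScalarTower.algebraMap_apply A B L, hα, Algebra.smul_def, map_mul, ← hb,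
      ← AlgHom.commutes ψ g, ← map_pow ψ, mul_assoc, ← map_mul ψ]
    rw [Units.val_pow_eq_pow_val, ← mul_pow, IsUnit.val_inv_mul, one_pow, map_one, mul_one, map_pow ψ,
      AlgHom.commutes, map_pow, map_pow, ← IsScalarTower.algebraMap_apply A B L, pow_add]
    ring
  let e := AlgEquiv.ofBijective ψ ⟨hinj, hsurj⟩
  refine ⟨e.symm.toAlgHom.comp (IsScalarTower.toAlgHom A B L), ?_, fun y hy => ?_⟩
  · exact e.symm.injective.comp (IsLocalization.injective L hpow)
  · refine mem_nonZeroDivisors_iff_right.mpr fun z hz => ?_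
    have h := congrArg e hz
    rw [map_mul, AlgHom.comp_apply, map_zero] at h
    rw [show e (e.symm.toAlgHom (IsScalarTower.toAlgHom A B L y)) = algebraMap B L y from
      e.apply_symm_apply _] at h
    exact (map_eq_zero_iff e e.injective).mp ((mul_right_mem_nonZeroDivisors_eq_zero_iff
      (IsLocalization.map_nonZeroDivisors_le (Submonoid.powers gB) L ⟨y, hy, rfl⟩)).mp h)

theorem val_units {a b : A} (ha : IsUnit a) (hb : IsUnit b) {v : ResidueField A} (h : Val A a b B v) : v = 1 := by
  have : IsNoetherianRing B := IsNoetherianRing.of_finite A B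
  have : Ring.KrullDimLE 1 B := krullDimLE_one (A := A)
  obtain ⟨x, hx, rfl⟩ := h
  refine finprod_eq_one_of_forall_eq_one fun q => ?_
  have : IsNoetherianRing (Localization.AtPrime q.asIdeal) :=
    IsLocalization.isNoetherianRing q.asIdeal.primeCompl _ inferInstance
  have := krullDimLE_atPrime q.asIdeal
  rw [show x q = 1 from (hx q).unique (isSym_units (ha.map _).unit (hb.map _).unit), map_one]

theorem val_eq_of_same {a b : A} {v v' : ResidueField A} (h : Val A a b B v) (h' : Val A a b B v') : v = v' := by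
  have : IsNoetherianRing B := IsNoetherianRing.of_finite A B
  have : Ring.KrullDimLE 1 B := krullDimLE_one (A := A)
  obtain ⟨x, hx, rfl⟩ := h
  obtain ⟨y, hy, rfl⟩ := h'
  refine finprod_congr fun q => ?_
  have : IsNoetherianRing (Localization.AtPrime q.asIdeal) :=
    IsLocalization.isNoetherianRing q.asIdeal.primeCompl _ inferInstance
  have := krullDimLE_atPrime q.asIdeal
  rw [(hx q).unique (hy q)]

theorem regular_of_val {a b : A} {v : ResidueField A} (h : Val A a b B v) :
    algebraMap A B a ∈ nonZeroDivisors B ∧ algebraMap A B b ∈ nonZeroDivisors B := by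
  obtain ⟨x, hx, -⟩ := h
  constructor <;> refine mem_nonZeroDivisors_of_local fun q => ?_ <;>
    obtain ⟨π, u₁, u₂, e₁, e₂, hπ, ha, hb, -⟩ := hx q <;> rw [← IsScalarTower.algebraMap_apply]
  · rw [ha]; exact mul_mem u₁.isUnit.mem_nonZeroDivisors (pow_mem hπ _)
  · rw [hb]; exact mul_mem u₂.isUnit.mem_nonZeroDivisors (pow_mem hπ _)

variable {B' : Type u} [CommRing B'] [Algebra A B'] [Module.Finite A B']

/-- Two good extensions have a common good extension. -/
theorem exists_common (hB : Good A B) (hB' : Good A B') {g : A} (hg : g ∈ maximalIdeal A)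
    (hgA : g ∈ nonZeroDivisors A) :
    ∃ (C : Type u) (_ : CommRing C) (_ : Algebra A C) (_ : Module.Finite A C) (φ : B →ₐ[A] C) (φ' : B' →ₐ[A] C),
      Good A C ∧ Function.Injective φ ∧ Function.Injective φ' ∧ (∀ y ∈ nonZeroDivisors B, φ y ∈ nonZeroDivisors C) ∧
        (∀ y ∈ nonZeroDivisors B', φ' y ∈ nonZeroDivisors C) := by
  obtain ⟨φ₀, hφ₀, hreg⟩ := exists_embedding hB hg hgA
  obtain ⟨φ₀', hφ₀', hreg'⟩ := exists_embedding hB' hg hgA
  let K := Localization.Away g
  let S : Subalgebra A K := φ₀.range ⊔ φ₀'.range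
  have : Module.Finite A φ₀.range := Module.Finite.of_surjective φ₀.rangeRestrict.toLinearMap φ₀.rangeRestrict_surjective
  have : Module.Finite A φ₀'.range :=
    Module.Finite.of_surjective φ₀'.rangeRestrict.toLinearMap φ₀'.rangeRestrict_surjective
  have hS : Module.Finite A S := Subalgebra.finite_sup _ _
  let φ : B →ₐ[A] S := φ₀.codRestrict S fun b => le_sup_left (a := φ₀.range) ⟨b, rfl⟩
  let φ' : B' →ₐ[A] S := φ₀'.codRestrict S fun b => le_sup_right (b := φ₀'.range) ⟨b, rfl⟩
  have hA : Function.Injective (algebraMap A K) :=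
    IsLocalization.injective K (Submonoid.powers_le.mpr hgA)
  have hregS : ∀ z : S, (z : K) ∈ nonZeroDivisors K → z ∈ nonZeroDivisors S := fun z hz =>
    mem_nonZeroDivisors_iff_right.mpr fun w hw => Subtype.ext
      ((mul_right_mem_nonZeroDivisors_eq_zero_iff hz).mp (congrArg Subtype.val hw))
  obtain ⟨m, hm⟩ : ∃ m : ℕ, ∀ z : S, ∃ α : A, algebraMap A K (g ^ m) * (z : K) = algebraMap A K α := by
    obtain ⟨T, hT⟩ := hS.fg_top
    classical
    obtain ⟨⟨_, m, rfl⟩, hc⟩ := IsLocalization.exist_integer_multiples_of_finset (Submonoid.powers g)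
      (T.image (Subtype.val : S → K))
    refine ⟨m, fun z => ?_⟩
    have hz : z ∈ Submodule.span A (T : Set S) := hT ▸ trivial
    induction hz using Submodule.span_induction with
    | mem z hz =>
      obtain ⟨α, hα⟩ := hc _ (Finset.mem_image_of_mem _ hz)
      exact ⟨α, by rw [hα, Algebra.smul_def]⟩
    | zero => exact ⟨0, by simp⟩
    | add z w _ _ h h' =>
      obtain ⟨α, hα⟩ := h
      obtain ⟨β, hβ⟩ := h'
      exact ⟨α + β, by rw [Subalgebra.coe_add, mul_add, hα, hβ, map_add]⟩
    | smul r z _ h =>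
      obtain ⟨α, hα⟩ := h
      exact ⟨r * α, by rw [Subalgebra.coe_smul, Algebra.smul_def, mul_left_comm, hα, map_mul]⟩
  obtain ⟨N, hN⟩ := exists_pow_le (A := A) (B := A) (pow_mem hgA m)
  refine ⟨S, inferInstance, inferInstance, hS, φ, φ', ⟨⟨fun u v h => hA (congrArg Subtype.val h), hS, N,
      fun r hr z => ?_⟩, fun y hy => hregS _ ?_⟩, fun u v h => hφ₀ (congrArg Subtype.val h),
    fun u v h => hφ₀' (congrArg Subtype.val h), fun y hy => hregS _ (hreg y hy), fun y hy => hregS _ (hreg' y hy)⟩
  · obtain ⟨w, hw⟩ := Ideal.mem_span_singleton'.mp (hN hr)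
    obtain ⟨α, hα⟩ := hm z
    refine ⟨w * α, Subtype.ext ?_⟩
    show algebraMap A K (w * α) = ((r • z : S) : K)
    rw [Subalgebra.coe_smul, Algebra.smul_def, ← hw, map_mul, map_mul, ← hα]
    ring
  · exact IsLocalization.map_nonZeroDivisors_le (Submonoid.powers g) K ⟨y, hy, rfl⟩

/-- Values agree. -/
theorem Val.unique {a b : A} (ha : a ∈ nonZeroDivisors A) (hb : b ∈ nonZeroDivisors A)
    (hB : CycAlg.IsFinExt A B (maximalIdeal A)) (hB' : CycAlg.IsFinExt A B' (maximalIdeal A))
    {v v' : ResidueField A} (h : Val A a b B v) (h' : Val A a b B' v') : v = v' := by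
  by_cases hu : IsUnit a ∧ IsUnit b
  · rw [val_units hu.1 hu.2 h, val_units hu.1 hu.2 h']
  obtain ⟨g, hgm, hgA, hg1, hg2⟩ : ∃ g ∈ maximalIdeal A, g ∈ nonZeroDivisors A ∧
      algebraMap A B g ∈ nonZeroDivisors B ∧ algebraMap A B' g ∈ nonZeroDivisors B' := by
    rcases not_and_or.mp hu with hu | hu
    · exact ⟨a, (mem_maximalIdeal a).mpr hu, ha, (regular_of_val h).1, (regular_of_val h').1⟩
    · exact ⟨b, (mem_maximalIdeal b).mpr hu, hb, (regular_of_val h).2, (regular_of_val h').2⟩
  obtain ⟨C, _, _, _, φ, φ', hC, hφ, hφ', hr, hr'⟩ :=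
    exists_common (good_of_regular hB hgm hg1) (good_of_regular hB' hgm hg2) hgm hgA
  obtain ⟨-, -, n, hn⟩ := hC.fin
  have hk : ∀ {D : Type u} [CommRing D] [Algebra A D] (ψ : D →ₐ[A] C), ∀ r ∈ maximalIdeal A ^ n, ∀ c : C,
      r • c ∈ LinearMap.range ψ.toLinearMap := fun ψ r hr c => by
    obtain ⟨α, hα⟩ := hn r hr c
    exact ⟨algebraMap A _ α, (ψ.commutes α).trans hα⟩
  exact val_eq_of_same (h.map φ hφ (hk φ) hr) (h'.map φ' hφ' (hk φ') hr')

theorem exists_val {a b : A} (ha : a ∈ nonZeroDivisors A) (hb : b ∈ nonZeroDivisors A) :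
    ∃ (B : Type u) (_ : CommRing B) (_ : Algebra A B) (_ : Module.Finite A B) (v : ResidueField A),
      Good A B ∧ Val A a b B v := by
  obtain ⟨B, i1, i2, hB, h⟩ := exists_factorisations ![a, b] (fun i => by fin_cases i <;> assumption)
  choose π hπ hf using h
  choose u e he using hf
  exact ⟨B, i1, i2, hB.finite, _, hB,
    ⟨_, fun q => ⟨π q, u q 0, u q 1, e q 0, e q 1, hπ q, he q 0, he q 1, rfl⟩, rfl⟩⟩

theorem val_of_data {a b : A} (D : CycAlg.TameData A a b) :
    haveI := D.isFinExt.2.1
    Val A a b D.B D.value := by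
  haveI := D.isFinExt.2.1
  refine ⟨fun q => sval (D.π q) (D.u₁ q) (D.u₂ q) (D.e₁ q) (D.e₂ q),
    fun q => ⟨D.π q, _, _, _, _, D.π_mem q, D.fac₁ q, D.fac₂ q, rfl⟩, ?_⟩
  refine finprod_congr fun q => ?_
  simp only [sval, map_pow]
  rfl

/-- The tame symbol is the value of any good computation. -/
theorem tameSymbol_eq {a b : A} (ha : a ∈ nonZeroDivisors A) (hb : b ∈ nonZeroDivisors A)
    (hB : CycAlg.IsFinExt A B (maximalIdeal A)) {v : ResidueField A} (h : Val A a b B v) :
    CycAlg.tameSymbol A a b = v := by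
  have hD : Nonempty (CycAlg.TameData A a b) := by
    obtain ⟨x, hx, -⟩ := h
    choose π u₁ u₂ e₁ e₂ hπ h₁ h₂ _ using hx
    exact ⟨{ B := B, isFinExt := hB, isLocalHom := fun q => isLocalHom_atPrime q.asIdeal, π := π, π_mem := hπ,
             u₁ := u₁, u₂ := u₂, e₁ := e₁, e₂ := e₂, fac₁ := h₁, fac₂ := h₂ }⟩
  rw [CycAlg.tameSymbol, dif_pos hD]
  haveI := (Classical.choice hD).isFinExt.2.1
  exact Val.unique ha hb (Classical.choice hD).isFinExt hB (val_of_data _) h

end Groth.Agent.TameLib
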