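import Groth.Agent.TameLib.Lift
import Groth.Agent.TameLib.Trans
import Mathlib.RingTheory.LocalRing.Length
import Mathlib.RingTheory.TensorProduct.Quotient
import Mathlib.LinearAlgebra.TensorProduct.RightExactness
import Mathlib.RingTheory.Flat.Localization
import Mathlib.LinearAlgebra.Dimension.OrzechProperty
import Mathlib.RingTheory.IsTensorProduct

/-! The tame symbol and flat local homomorphisms. -/

set_option linter.unusedSectionVars false
set_option linter.style.haveILetI false
set_option linter.unusedSimpArgs false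

namespace Groth.Agent.TameLib

open IsLocalRing TensorProduct

universe u

attribute [local instance] Algebra.TensorProduct.rightAlgebra

variable {A : Type u} [CommRing A] [IsLocalRing A] [IsNoetherianRing A] [Ring.KrullDimLE 1 A]
  {A' : Type u} [CommRing A'] [IsLocalRing A'] [IsNoetherianRing A'] [Ring.KrullDimLE 1 A'] [Algebra A A']
  [IsLocalHom (algebraMap A A')] [Module.Flat A A']
  {B : Type u} [CommRing B] [Algebra A B] [Module.Finite A B]

theorem residueMap_spec (q : MaximalSpectrum B) :
    Function.Surjective (IsScalarTower.toAlgHom A B (ResidueField (Localization.AtPrime q.asIdeal))) ∧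
      RingHom.ker (IsScalarTower.toAlgHom A B (ResidueField (Localization.AtPrime q.asIdeal))) = q.asIdeal := by
  let R := Localization.AtPrime q.asIdeal
  let f : B →ₐ[A] ResidueField R := IsScalarTower.toAlgHom A B _
  have hker : RingHom.ker f = q.asIdeal := by
    ext b
    show residue R (algebraMap B R b) = 0 ↔ _
    rw [residue_eq_zero_iff]
    exact IsLocalization.AtPrime.to_map_mem_maximal_iff R q.asIdeal b
  refine ⟨fun z => ?_, hker⟩
  obtain ⟨z, rfl⟩ := residue_surjective z
  obtain ⟨⟨a, s⟩, h⟩ := IsLocalization.surj q.asIdeal.primeCompl z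
  let _ : Field (B ⧸ q.asIdeal) := Ideal.Quotient.field q.asIdeal
  obtain ⟨t, ht⟩ := Ideal.Quotient.mk_surjective ((Ideal.Quotient.mk q.asIdeal (s : B))⁻¹)
  have hs0 : Ideal.Quotient.mk q.asIdeal (s : B) ≠ 0 := mt Ideal.Quotient.eq_zero_iff_mem.mp s.2
  have h1 : f ((s : B) * t) = 1 := by
    rw [← map_one f, ← sub_eq_zero, ← map_sub, ← RingHom.mem_ker, hker, ← Ideal.Quotient.eq_zero_iff_mem,
      map_sub, map_mul, ht, mul_inv_cancel₀ hs0, map_one, sub_self]
  refine ⟨a * t, ?_⟩
  calc f (a * t) = residue _ (z * algebraMap B _ (s : B) * algebraMap B _ t) := by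
          rw [h, ← map_mul]; rfl
    _ = residue _ z * f ((s : B) * t) := by rw [mul_assoc, map_mul, ← map_mul (algebraMap B _)]; rfl
    _ = _ := by rw [h1, mul_one]

theorem algebraMap_tensor (a : A) :
    algebraMap A' (A' ⊗[A] B) (algebraMap A A' a) = algebraMap B (A' ⊗[A] B) (algebraMap A B a) :=
  (congrArg (· ⊗ₜ[A] (1 : B)) (Algebra.algebraMap_eq_smul_one a)).trans
    ((TensorProduct.smul_tmul a 1 1).trans
      (congrArg ((1 : A') ⊗ₜ[A] ·) (Algebra.algebraMap_eq_smul_one a).symm))

open Classical in
set_option maxHeartbeats 1000000 in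
/-- The product of norms over the maximal ideals of `A' ⊗ B` above `q`. -/
theorem fibre_norm {m : ℕ}
    (hm : Module.length A' (A' ⧸ (maximalIdeal A).map (algebraMap A A')) = m) (hm0 : 0 < m)
    [Fintype (MaximalSpectrum (A' ⊗[A] B))] (q : MaximalSpectrum B) (b : B) :
    (∏ r : MaximalSpectrum (A' ⊗[A] B),
        nrm A' r (residue _ (algebraMap (A' ⊗[A] B) (Localization.AtPrime r.asIdeal) (algebraMap B _ b))) ^
          (Module.length (Localization.AtPrime r.asIdeal) (LocalizedModule r.asIdeal.primeCompl
            ((A' ⊗[A] B) ⧸ q.asIdeal.map (algebraMap B (A' ⊗[A] B))))).toNat) =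
      ResidueField.map (algebraMap A A') (nrm A q (residue _ (algebraMap B (Localization.AtPrime q.asIdeal) b))) ^ m ∧
    ∀ r : MaximalSpectrum (A' ⊗[A] B), Module.length (Localization.AtPrime r.asIdeal)
      (LocalizedModule r.asIdeal.primeCompl ((A' ⊗[A] B) ⧸ q.asIdeal.map (algebraMap B (A' ⊗[A] B)))) ≠ ⊤ := by
  let C := A' ⊗[A] B
  let K : Ideal C := q.asIdeal.map (algebraMap B C)
  let KY : Ideal C := K ⊔ (maximalIdeal A').map (algebraMap A' C)
  haveI := isLocalHom_atPrime (A := A) q.asIdeal
  haveI := finite_residueField (A := A) q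
  let L := ResidueField (Localization.AtPrime q.asIdeal)
  let f : B →ₐ[A] L := IsScalarTower.toAlgHom A B L
  obtain ⟨hf, hfker⟩ : Function.Surjective f ∧ RingHom.ker f = q.asIdeal := residueMap_spec q
  -- the module `C / K`
  let g : C →ₐ[A'] A' ⊗[A] (B ⧸ q.asIdeal) :=
    Algebra.TensorProduct.map (AlgHom.id A' A') (Ideal.Quotient.mkₐ A q.asIdeal)
  have hgs : Function.Surjective g :=
    LinearMap.lTensor_surjective A' (g := (Ideal.Quotient.mkₐ A q.asIdeal).toLinearMap) Ideal.Quotient.mk_surjective
  have hgk : RingHom.ker g = K := by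
    refine (Algebra.TensorProduct.lTensor_ker (Ideal.Quotient.mkₐ A q.asIdeal) Ideal.Quotient.mk_surjective).trans ?_
    rw [show RingHom.ker (Ideal.Quotient.mkₐ A q.asIdeal) = q.asIdeal from Ideal.Quotient.mkₐ_ker A _]
    rfl
  have hX : Module.length A' (C ⧸ K) = (deg A q * m : ℕ) := by
    rw [((Ideal.quotientEquivAlgOfEq A' hgk.symm).trans
      (Ideal.quotientKerAlgEquivOfSurjective hgs)).toLinearEquiv.length_eq,
      IsLocalRing.length_baseChange, length_residue, hm, Nat.cast_mul]
  have hXfin : IsFiniteLength C (C ⧸ K) := by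
    have h := isFiniteLength_iff_isNoetherian_isArtinian.mp
      (Module.length_ne_top_iff.mp (by rw [hX]; exact ENat.natCast_ne_top _) : IsFiniteLength A' (C ⧸ K))
    haveI := h.1
    haveI := h.2
    exact isFiniteLength_iff_isNoetherian_isArtinian.mpr ⟨isNoetherian_of_tower A' h.1, isArtinian_of_tower A' h.2⟩
  -- the module `C / (K + m' C)`
  let iY : Algebra (ResidueField A') (C ⧸ KY) :=
    (Ideal.Quotient.lift (maximalIdeal A') ((Ideal.Quotient.mk KY).comp (algebraMap A' C)) fun a ha =>
      Ideal.Quotient.eq_zero_iff_mem.mpr (Ideal.mem_sup_right (Ideal.mem_map_of_mem _ ha))).toAlgebra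
  haveI : IsScalarTower A' (ResidueField A') (C ⧸ KY) := IsScalarTower.of_algebraMap_eq fun _ => rfl
  haveI : Module.Finite (ResidueField A') (C ⧸ KY) := Module.Finite.of_restrictScalars_finite A' _ _
  have hYlen : Module.length A' (C ⧸ KY) = Module.finrank (ResidueField A') (C ⧸ KY) := by
    rw [Module.length_eq_of_surjective (S := A') (R := ResidueField A') residue_surjective, Module.length_eq_finrank]
  have hYfin : IsFiniteLength C (C ⧸ KY) := by
    have h := isFiniteLength_iff_isNoetherian_isArtinian.mp
      (Module.length_ne_top_iff.mp (by rw [hYlen]; exact ENat.natCast_ne_top _) : IsFiniteLength A' (C ⧸ KY))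
    haveI := h.1
    haveI := h.2
    exact isFiniteLength_iff_isNoetherian_isArtinian.mpr ⟨isNoetherian_of_tower A' h.1, isArtinian_of_tower A' h.2⟩
  -- generators
  let bas := Module.finBasisOfFinrankEq (ResidueField A) L (n := deg A q) rfl
  choose bb hbb using fun i => hf (bas i)
  let y : Fin (deg A q) → C ⧸ KY := fun i => Ideal.Quotient.mk KY (algebraMap B C (bb i))
  have hq0 : ∀ c : B, f c = 0 → Ideal.Quotient.mk KY (algebraMap B C c) = 0 := fun c hc => by
    refine Ideal.Quotient.eq_zero_iff_mem.mpr (Ideal.mem_sup_left (Ideal.mem_map_of_mem _ ?_))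
    rw [← hfker]
    exact hc
  have hcomb : ∀ c : B, ∀ a : Fin (deg A q) → A,
      (∀ i, residue A (a i) = bas.repr (f c) i) →
      Ideal.Quotient.mk KY (algebraMap B C c) = ∑ i, ResidueField.map (algebraMap A A') (residue A (a i)) • y i := by
    intro c a ha
    have h0 : f (c - ∑ i, algebraMap A B (a i) * bb i) = 0 := by
      rw [map_sub, map_sum, sub_eq_zero]
      conv_lhs => rw [← bas.sum_repr (f c)]
      refine Finset.sum_congr rfl fun i _ => ?_
      rw [map_mul, AlgHom.commutes, hbb, ← ha i, Algebra.smul_def]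
      rfl
    have h1 := hq0 _ h0
    rw [map_sub, map_sub, sub_eq_zero, map_sum, map_sum] at h1
    rw [h1]
    refine Finset.sum_congr rfl fun i _ => ?_
    rw [map_mul, map_mul, ← algebraMap_tensor, ResidueField.map_residue, Algebra.smul_def]
    rfl
  have hspan : ⊤ ≤ Submodule.span (ResidueField A') (Set.range y) := by
    rintro z -
    obtain ⟨z, rfl⟩ := Ideal.Quotient.mk_surjective z
    induction z using TensorProduct.induction_on with
    | zero => rw [map_zero]; exact zero_mem _
    | add u v hu hv => rw [map_add]; exact add_mem hu hv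
    | tmul a' c =>
      choose a ha using fun i => residue_surjective (bas.repr (f c) i)
      have e : Ideal.Quotient.mk KY (a' ⊗ₜ[A] c) = residue A' a' • Ideal.Quotient.mk KY (algebraMap B C c) := by
        rw [Algebra.smul_def]
        show _ = Ideal.Quotient.mk KY (algebraMap A' C a') * Ideal.Quotient.mk KY (algebraMap B C c)
        rw [← map_mul]
        congr 1
        show _ = (a' ⊗ₜ[A] (1 : B)) * ((1 : A') ⊗ₜ[A] c)
        rw [Algebra.TensorProduct.tmul_mul_tmul, mul_one, one_mul]
      rw [e, hcomb c a ha]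
      exact Submodule.smul_mem _ _ (Submodule.sum_mem _ fun i _ =>
        Submodule.smul_mem _ _ (Submodule.subset_span (Set.mem_range_self i)))
  have hYle : Module.finrank (ResidueField A') (C ⧸ KY) ≤ deg A q := by
    rw [← finrank_top, ← le_antisymm hspan le_top |>.symm]
    exact (finrank_range_le_card y).trans (Fintype.card_fin _).le
  -- the local inequalities
  have hle : ∀ r : MaximalSpectrum C,
      Module.length (Localization.AtPrime r.asIdeal) (LocalizedModule r.asIdeal.primeCompl (C ⧸ K)) ≤
        m * Module.length (Localization.AtPrime r.asIdeal) (LocalizedModule r.asIdeal.primeCompl (C ⧸ KY)) := fun r => by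
    have h := localized_length_le r.asIdeal K m _ hm
    have e : K ⊔ ((maximalIdeal A).map (algebraMap A A')).map (algebraMap A' C) = K := sup_eq_left.mpr (by
      rw [Ideal.map_map, Ideal.map_le_iff_le_comap]
      intro a ha
      show algebraMap A' C (algebraMap A A' a) ∈ K
      rw [algebraMap_tensor]
      exact Ideal.mem_map_of_mem _ (map_max_le q.asIdeal (Ideal.mem_map_of_mem _ ha)))
    rw [e] at h
    exact h
  obtain ⟨hdet, hYr⟩ := det_eq_prod (R := A') (algebraMap B C b) hYfin
    (fun a x => by rw [Algebra.smul_def, Algebra.smul_def]; rfl)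
    (LinearMap.mulLeft (ResidueField A') (Ideal.Quotient.mk KY (algebraMap B C b)))
    (fun x => by rw [LinearMap.mulLeft_apply, Algebra.smul_def]; rfl)
  have hXr : ∀ r : MaximalSpectrum C,
      Module.length (Localization.AtPrime r.asIdeal) (LocalizedModule r.asIdeal.primeCompl (C ⧸ K)) ≠ ⊤ := fun r => by
    obtain ⟨k, hk⟩ := ENat.ne_top_iff_exists.mp (hYr r)
    refine ne_top_of_le_ne_top ?_ (hle r)
    rw [← hk, ← Nat.cast_mul]
    exact ENat.natCast_ne_top _
  refine ⟨?_, hXr⟩
  let lX : MaximalSpectrum C → ℕ := fun r =>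
    (Module.length (Localization.AtPrime r.asIdeal) (LocalizedModule r.asIdeal.primeCompl (C ⧸ K))).toNat
  let lY : MaximalSpectrum C → ℕ := fun r =>
    (Module.length (Localization.AtPrime r.asIdeal) (LocalizedModule r.asIdeal.primeCompl (C ⧸ KY))).toNat
  have hlX : ∑ r, deg A' r * lX r = deg A q * m := by
    refine Nat.cast_injective (R := ℕ∞) ?_
    rw [← hX, length_eq_sum (A := A') (C ⧸ K) hXfin, Nat.cast_sum]
    exact Finset.sum_congr rfl fun r _ => by rw [Nat.cast_mul, ENat.natCast_toNat (hXr r)]
  have hlY : ∑ r, deg A' r * lY r = Module.finrank (ResidueField A') (C ⧸ KY) := by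
    refine Nat.cast_injective (R := ℕ∞) ?_
    rw [← hYlen, length_eq_sum (A := A') (C ⧸ KY) hYfin, Nat.cast_sum]
    exact Finset.sum_congr rfl fun r _ => by rw [Nat.cast_mul, ENat.natCast_toNat (hYr r)]
  have hler : ∀ r, lX r ≤ m * lY r := fun r => by
    have h := hle r
    rw [← ENat.natCast_toNat (hXr r), ← ENat.natCast_toNat (hYr r), ← Nat.cast_mul, Nat.cast_le] at h
    exact h
  have h1 : ∀ r ∈ (Finset.univ : Finset (MaximalSpectrum C)), deg A' r * lX r ≤ deg A' r * (m * lY r) :=
    fun r _ => Nat.mul_le_mul_left _ (hler r)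
  have h2 : ∑ r, deg A' r * (m * lY r) = m * Module.finrank (ResidueField A') (C ⧸ KY) := by
    rw [← hlY, Finset.mul_sum]
    exact Finset.sum_congr rfl fun r _ => mul_left_comm _ _ _
  have h3 := Finset.sum_le_sum h1
  rw [hlX, h2, mul_comm (deg A q) m] at h3
  have hd : Module.finrank (ResidueField A') (C ⧸ KY) = deg A q :=
    le_antisymm hYle (Nat.le_of_mul_le_mul_left h3 hm0)
  have hlr : ∀ r, lX r = m * lY r := fun r =>
    Nat.eq_of_mul_eq_mul_left (deg_pos (A := A') r) ((Finset.sum_eq_sum_iff_of_le h1).mp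
      (by rw [hlX, h2, hd, mul_comm]) r (Finset.mem_univ r))
  let bY := basisOfTopLeSpanOfCardEqFinrank y hspan (by rw [Fintype.card_fin, hd])
  have hmat : LinearMap.toMatrix bY bY (LinearMap.mulLeft (ResidueField A') (Ideal.Quotient.mk KY (algebraMap B C b))) =
      (Algebra.leftMulMatrix bas (f b)).map (ResidueField.map (algebraMap A A')) := by
    ext i j
    choose a ha using fun i => residue_surjective (bas.repr (f (b * bb j)) i)
    have e := hcomb _ a ha
    have hy : ∀ k, bY k = y k := fun k => congrFun (coe_basisOfTopLeSpanOfCardEqFinrank _ _ _) k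
    rw [LinearMap.toMatrix_apply, LinearMap.mulLeft_apply, hy, ← map_mul, ← map_mul, e, Matrix.map_apply,
      Algebra.leftMulMatrix_eq_repr_mul, ← hbb, ← map_mul, ← ha]
    simp only [← hy, map_sum, map_smul, Module.Basis.repr_self, Finset.sum_apply', Finsupp.smul_apply,
      Finsupp.single_apply, smul_eq_mul, mul_ite, mul_one, mul_zero, Finset.sum_ite_eq', Finset.mem_univ, if_true]
  rw [← LinearMap.det_toMatrix bY, hmat, ← RingHom.mapMatrix_apply, ← RingHom.map_det,
    ← Algebra.norm_eq_matrix_det] at hdet
  show _ = ResidueField.map (algebraMap A A') (Algebra.norm (ResidueField A) (f b)) ^ m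
  rw [hdet, ← Finset.prod_pow]
  refine Finset.prod_congr rfl fun r _ => ?_
  show _ ^ lX r = _
  rw [hlr r, mul_comm, pow_mul]

open Classical in
set_option maxHeartbeats 1000000 in
/-- Compatibility with a flat local homomorphism, given a regular non-unit. -/
theorem tameSymbol_baseChange {g : A} (hgm : g ∈ maximalIdeal A) (hgA : g ∈ nonZeroDivisors A) {a₁ a₂ : A}
    (h₁ : a₁ ∈ nonZeroDivisors A) (h₂ : a₂ ∈ nonZeroDivisors A) :
    ResidueField.map (algebraMap A A') (CycAlg.tameSymbol A a₁ a₂) ^
        (Module.length A' (A' ⧸ (maximalIdeal A).map (algebraMap A A'))).toNat =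
      CycAlg.tameSymbol A' (algebraMap A A' a₁) (algebraMap A A' a₂) := by
  have hreg : ∀ x ∈ nonZeroDivisors A, algebraMap A A' x ∈ nonZeroDivisors A' := fun x hx => by
    refine mem_nonZeroDivisors_iff_right.mpr fun y hy => ?_
    refine (Module.Flat.isSMulRegular_of_nonZeroDivisors (M := A') hx) ?_
    show x • y = x • (0 : A')
    rw [smul_zero, Algebra.smul_def, mul_comm, hy]
  obtain ⟨N, hN⟩ := exists_pow_maximalIdeal_le (R := A') (hreg g hgA)
  have hg' : algebraMap A A' g ∈ maximalIdeal A' := (mem_maximalIdeal _).mpr fun h =>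
    (mem_maximalIdeal _).mp hgm ((isUnit_map_iff (algebraMap A A') g).mp h)
  have hJN : maximalIdeal A' ^ N ≤ (maximalIdeal A).map (algebraMap A A') :=
    hN.trans ((Ideal.span_singleton_le_iff_mem _).mpr (Ideal.mem_map_of_mem _ hgm))
  have hne : Module.length A' (A' ⧸ (maximalIdeal A).map (algebraMap A A')) ≠ ⊤ := by
    refine length_ne_top_of_pow (N := N) fun r hr x => ?_
    obtain ⟨x, rfl⟩ := Ideal.Quotient.mk_surjective x
    rw [Algebra.smul_def, Ideal.Quotient.algebraMap_eq, ← map_mul, Ideal.Quotient.eq_zero_iff_mem]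
    exact Ideal.mul_mem_right _ _ (hJN hr)
  obtain ⟨m, hm⟩ := ENat.ne_top_iff_exists.mp hne
  have hm0 : 0 < m := by
    have : Nontrivial (A' ⧸ (maximalIdeal A).map (algebraMap A A')) := Ideal.Quotient.nontrivial_iff.2 fun h =>
      (maximalIdeal.isMaximal A').ne_top (top_le_iff.mp (h.ge.trans (Ideal.map_le_iff_le_comap.mpr fun x hx =>
        (mem_maximalIdeal _).mpr fun hu => (mem_maximalIdeal _).mp hx ((isUnit_map_iff (algebraMap A A') x).mp hu))))
    exact_mod_cast (hm ▸ Module.length_pos : (0 : ℕ∞) < (m : ℕ∞))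
  rw [← hm, ENat.toNat_natCast]
  -- a computation over `A` and its base change
  obtain ⟨B, _, _, _, _, π, u, e, hB, hπ, hf, hev⟩ := exists_eval ![a₁, a₂] (fun i => by fin_cases i <;> assumption)
  rw [hev a₁ a₂ h₁ h₂ _ _ _ _ (fun q => hf q 0) (fun q => hf q 1), map_prod, ← Finset.prod_pow]
  let C := A' ⊗[A] B
  haveI : IsScalarTower A B C := IsScalarTower.of_algebraMap_eq fun a => algebraMap_tensor a
  haveI hflatC : Module.Flat B C :=
    Module.Flat.isBaseChange (R := A) (S := B) (M := A') C
      (f := (IsScalarTower.toAlgHom A A' C).toLinearMap) (Algebra.IsPushout.out (self := inferInstance))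
  obtain ⟨hinj, -, n, hn⟩ := hB.fin
  have hext : CycAlg.IsFinExt A' C (maximalIdeal A') := by
    refine ⟨fun x y h => ?_, inferInstance, N * n, fun r hr c => ?_⟩
    · have h' := Module.Flat.lTensor_preserves_injective_linearMap (M := A') (Algebra.linearMap A B) hinj
      refine (TensorProduct.rid A A').symm.injective (h' ?_)
      simp only [TensorProduct.rid_symm_apply, LinearMap.lTensor_tmul, Algebra.linearMap_apply, map_one]
      exact h
    · rw [pow_mul] at hr
      have hr' : r ∈ (maximalIdeal A ^ n).map (algebraMap A A') := by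
        rw [Ideal.map_pow]
        exact Ideal.pow_right_mono hJN n hr
      have hkill : ∀ s ∈ maximalIdeal A ^ n, ∀ c : C, algebraMap A A' s • c ∈ (algebraMap A' C).range := by
        intro s hs c
        induction c using TensorProduct.induction_on with
        | zero => rw [smul_zero]; exact zero_mem _
        | add x y hx hy => rw [smul_add]; exact add_mem hx hy
        | tmul a' b =>
          obtain ⟨α, hα⟩ := hn s hs b
          refine ⟨a' * algebraMap A A' α, ?_⟩
          rw [algebraMap_smul, ← TensorProduct.tmul_smul, ← hα, Algebra.algebraMap_eq_smul_one (A := B),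
            TensorProduct.tmul_smul, TensorProduct.smul_tmul', Algebra.smul_def, mul_comm]
          rfl
      clear hr
      induction hr' using Submodule.span_induction with
      | mem x hx =>
        obtain ⟨s, hs, rfl⟩ := hx
        exact hkill s hs c
      | zero => rw [zero_smul]; exact zero_mem _
      | add x y _ _ hx hy => rw [add_smul]; exact add_mem hx hy
      | smul x y _ hy =>
        obtain ⟨α, hα⟩ := hy
        exact ⟨x * α, by rw [map_mul, hα, smul_eq_mul, mul_smul, ← Algebra.smul_def]⟩
  haveI := finite_maximalSpectrum A' C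
  letI := Fintype.ofFinite (MaximalSpectrum C)
  have hdown : ∀ r : MaximalSpectrum C, (r.asIdeal.comap (algebraMap B C)).IsMaximal := fun r => by
    haveI := r.isMaximal
    haveI : Algebra.IsIntegral A B := Algebra.IsIntegral.of_finite A B
    refine Ideal.isMaximal_of_isIntegral_of_isMaximal_comap (R := A) _ ?_
    have e : (r.asIdeal.comap (algebraMap B C)).comap (algebraMap A B) = maximalIdeal A := by
      ext a
      rw [Ideal.mem_comap, Ideal.mem_comap, ← algebraMap_tensor, mem_maximalIdeal]
      rw [← Ideal.mem_comap, under_eq_maximal (A := A') r.asIdeal, mem_maximalIdeal]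
      exact not_congr (isUnit_map_iff (algebraMap A A') a)
    rw [e]
    exact maximalIdeal.isMaximal A
  let dn : MaximalSpectrum C → MaximalSpectrum B := fun r => ⟨_, hdown r⟩
  let lr : ∀ r : MaximalSpectrum C, Localization.AtPrime (dn r).asIdeal →+* Localization.AtPrime r.asIdeal :=
    fun r => Localization.localRingHom (dn r).asIdeal r.asIdeal (algebraMap B C) rfl
  have hlr : ∀ r x, lr r (algebraMap B _ x) = algebraMap C _ (algebraMap B C x) := fun r x =>
    Localization.localRingHom_to_map (dn r).asIdeal r.asIdeal (algebraMap B C) rfl x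
  haveI hloc : ∀ r, IsLocalHom (lr r) := fun r => Localization.isLocalHom_localRingHom _ _ _ rfl
  haveI : IsNoetherianRing B := hB.isNoetherian
  haveI : Ring.KrullDimLE 1 B := hB.dim
  let ρ : ∀ r : MaximalSpectrum C, Localization.AtPrime r.asIdeal := fun r => lr r (π (dn r))
  have hkey : ∀ r : MaximalSpectrum C, ρ r ∈ nonZeroDivisors (Localization.AtPrime r.asIdeal) ∧
      Ring.ord (Localization.AtPrime r.asIdeal) (ρ r) =
        Ring.ord (Localization.AtPrime (dn r).asIdeal) (π (dn r)) *
          Module.length (Localization.AtPrime r.asIdeal) (LocalizedModule r.asIdeal.primeCompl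
            (C ⧸ (dn r).asIdeal.map (algebraMap B C))) := fun r => by
    let Bq := Localization.AtPrime (dn r).asIdeal
    let Cr := Localization.AtPrime r.asIdeal
    let _ : Algebra Bq Cr := (lr r).toAlgebra
    haveI : IsLocalHom (algebraMap Bq Cr) := hloc r
    haveI : IsScalarTower B Bq Cr := IsScalarTower.of_algebraMap_eq fun x => by
      rw [IsScalarTower.algebraMap_apply B C Cr]
      exact (hlr r x).symm
    haveI : Module.Flat C Cr := IsLocalization.flat Cr r.asIdeal.primeCompl
    haveI : Module.Flat B Cr := Module.Flat.trans B C Cr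
    haveI : Module.Flat Bq Cr :=
      (Module.flat_iff_of_isLocalization Bq (dn r).asIdeal.primeCompl Cr).mpr inferInstance
    refine ⟨mem_nonZeroDivisors_iff_right.mpr fun y hy =>
      (Module.Flat.isSMulRegular_of_nonZeroDivisors (M := Cr) (hπ (dn r))) ?_, ?_⟩
    · show π (dn r) • y = π (dn r) • (0 : Cr)
      rw [smul_zero, Algebra.smul_def, mul_comm]
      exact hy
    · rw [length_localized_quot, Ideal.map_map, ← IsScalarTower.algebraMap_eq, IsScalarTower.algebraMap_eq B Bq Cr,
        ← Ideal.map_map, Localization.AtPrime.map_eq_maximalIdeal]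
      rw [Ring.ord, Ring.ord, ← IsLocalRing.length_baseChange,
        ← (Algebra.TensorProduct.quotIdealMapEquivTensorQuot Cr (Ideal.span {π (dn r)})).toLinearEquiv.length_eq,
        Ideal.map_span, Set.image_singleton]
      rfl
  have hf' : ∀ (i : Fin 2) (r : MaximalSpectrum C),
      algebraMap A' (Localization.AtPrime r.asIdeal) (algebraMap A A' (![a₁, a₂] i)) =
        ((Units.map (lr r).toMonoidHom (u (dn r) i) : (Localization.AtPrime r.asIdeal)ˣ) : Localization.AtPrime r.asIdeal) *
          ρ r ^ e (dn r) i := fun i r => by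
    have h := congrArg (lr r) (hf (dn r) i)
    rw [IsScalarTower.algebraMap_apply A B (Localization.AtPrime (dn r).asIdeal), hlr, ← algebraMap_tensor,
      ← IsScalarTower.algebraMap_apply A' C, map_mul, map_pow] at h
    exact h
  rw [tameSymbol_eq (hreg a₁ h₁) (hreg a₂ h₂) hext
    ⟨fun r => sval (ρ r) (Units.map (lr r).toMonoidHom (u (dn r) 0)) (Units.map (lr r).toMonoidHom (u (dn r) 1)) (e (dn r) 0) (e (dn r) 1),
      fun r => ⟨ρ r, _, _, _, _, (hkey r).1, hf' 0 r, hf' 1 r, rfl⟩, rfl⟩]
  rw [finprod_eq_prod_of_fintype,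
    ← Finset.prod_fiberwise_of_maps_to (s := Finset.univ) (t := Finset.univ) (g := dn) (fun _ _ => Finset.mem_univ _)]
  refine Finset.prod_congr rfl fun q _ => ?_
  obtain ⟨z, hz⟩ := (residueMap_spec (A := A) q).1 ((-1) ^ (e q 0 * e q 1) *
    residue _ (u q 0 : Localization.AtPrime q.asIdeal) ^ e q 1 *
      (residue _ (u q 1 : Localization.AtPrime q.asIdeal) ^ e q 0)⁻¹)
  obtain ⟨hprod, hfin⟩ := fibre_norm (A' := A') hm.symm hm0 q z
  rw [show sval (π q) (u q 0) (u q 1) (e q 0) (e q 1) =
      residue _ (algebraMap B (Localization.AtPrime q.asIdeal) z) ^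
        (Ring.ord (Localization.AtPrime q.asIdeal) (π q)).toNat from by rw [sval, ← hz]; rfl,
    map_pow, map_pow, ← pow_mul, mul_comm, pow_mul, ← hprod, ← Finset.prod_pow]
  rw [← Finset.prod_filter_mul_prod_filter_not Finset.univ (fun r => dn r = q)]
  rw [Finset.prod_eq_one (s := Finset.univ.filter fun r => ¬ dn r = q) (fun r hr => ?_), mul_one]
  · refine Finset.prod_congr rfl fun r hr => ?_
    obtain rfl := (Finset.mem_filter.mp hr).2
    have e0 : sval (ρ r) (Units.map (lr r).toMonoidHom (u (dn r) 0)) (Units.map (lr r).toMonoidHom (u (dn r) 1)) (e (dn r) 0) (e (dn r) 1) =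
        residue _ (algebraMap C (Localization.AtPrime r.asIdeal) (algebraMap B C z)) ^
          (Ring.ord (Localization.AtPrime r.asIdeal) (ρ r)).toNat := by
      unfold sval
      rw [← hlr r z, ← ResidueField.map_residue (lr r),
        show residue (Localization.AtPrime (dn r).asIdeal) (algebraMap B _ z) = _ from hz]
      simp only [map_mul, map_pow, map_inv₀, map_neg, map_one]
      rfl
    dsimp only
    rw [e0, (hkey r).2, ENat.toNat_mul, mul_comm (Ring.ord _ _).toNat, map_pow, pow_mul]
  · have hnot : ¬ dn r = q := (Finset.mem_filter.mp hr).2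
    have h0 : Module.length (Localization.AtPrime r.asIdeal) (LocalizedModule r.asIdeal.primeCompl
        (C ⧸ q.asIdeal.map (algebraMap B C))) = 0 := length_localized_ne r.asIdeal _ fun h =>
      hnot (MaximalSpectrum.ext (q.isMaximal.eq_of_le (hdown r).ne_top (Ideal.map_le_iff_le_comap.mp h)).symm)
    rw [show Module.length (Localization.AtPrime r.asIdeal) (LocalizedModule r.asIdeal.primeCompl
        ((A' ⊗[A] B) ⧸ q.asIdeal.map (algebraMap B (A' ⊗[A] B)))) = 0 from h0]
    simp

end Groth.Agent.TameLib
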