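import Groth.Agent.TameLib.Ext
import Mathlib.RingTheory.LocalRing.Length
import Mathlib.RingTheory.Localization.AtPrime.Basic
import Mathlib.Algebra.Module.LocalizedModule.Exact

/-! The length over the base as a sum over the maximal ideals of a finite extension. -/

set_option linter.unusedSectionVars false
set_option linter.style.haveILetI false

namespace Groth.Agent.TameLib

open IsLocalRing

universe u

variable {B : Type u} [CommRing B]

/-- A simple module at a maximal ideal localises to a simple module. -/
theorem length_localized_simple (q : Ideal B) [q.IsMaximal] :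
    Module.length (Localization.AtPrime q) (LocalizedModule q.primeCompl (B ⧸ q)) = 1 := by
  haveI : IsSimpleModule (Localization.AtPrime q) (LocalizedModule q.primeCompl (B ⧸ q)) := by
    rw [isSimpleModule_iff_toSpanSingleton_surjective]
    refine ⟨⟨LocalizedModule.mk 1 1, 0, fun h => ?_⟩, fun z hz w => ?_⟩
    · rw [← LocalizedModule.zero_mk (1 : q.primeCompl), LocalizedModule.mk_eq] at h
      obtain ⟨v, hv⟩ := h
      simp only [one_smul, smul_zero] at hv
      rw [Submonoid.smul_def, Algebra.smul_def, mul_one] at hv
      exact v.2 (Ideal.Quotient.eq_zero_iff_mem.mp hv)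
    · induction z using LocalizedModule.induction_on with
      | _ x s =>
        induction w using LocalizedModule.induction_on with
        | _ y t =>
          obtain ⟨x, rfl⟩ := Ideal.Quotient.mk_surjective x
          obtain ⟨y, rfl⟩ := Ideal.Quotient.mk_surjective y
          have hx : x ∈ q.primeCompl := fun hxp => hz (by
            rw [Ideal.Quotient.eq_zero_iff_mem.mpr hxp, LocalizedModule.zero_mk])
          refine ⟨Localization.mk (y * (s : B)) (t * ⟨x, hx⟩), ?_⟩
          rw [LinearMap.toSpanSingleton_apply, LocalizedModule.mk_smul_mk, LocalizedModule.mk_eq]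
          refine ⟨1, ?_⟩
          simp only [Submonoid.smul_def, Submonoid.coe_mul, one_smul,
            Algebra.smul_def, Ideal.Quotient.algebraMap_eq, ← map_mul]
          congr 1
          ring
  exact Module.length_eq_one _ _

theorem length_localized_ne (q m : Ideal B) [q.IsPrime] (h : ¬ m ≤ q) :
    Module.length (Localization.AtPrime q) (LocalizedModule q.primeCompl (B ⧸ m)) = 0 := by
  obtain ⟨t, htm, htq⟩ := SetLike.not_le_iff_exists.mp h
  rw [Module.length_eq_zero_iff]
  refine subsingleton_of_forall_eq 0 fun z => ?_
  induction z using LocalizedModule.induction_on with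
  | _ x s =>
    rw [← LocalizedModule.zero_mk s, LocalizedModule.mk_eq]
    refine ⟨⟨t, htq⟩, ?_⟩
    simp only [smul_zero]
    obtain ⟨x, rfl⟩ := Ideal.Quotient.mk_surjective x
    rw [Submonoid.smul_def, Submonoid.smul_def, Algebra.smul_def, Algebra.smul_def,
      Ideal.Quotient.algebraMap_eq, ← map_mul, ← map_mul]
    exact Ideal.Quotient.eq_zero_iff_mem.mpr (m.mul_mem_right _ htm)

theorem length_localized_congr (q : Ideal B) [q.IsPrime] {X Y : Type u} [AddCommGroup X] [Module B X]
    [AddCommGroup Y] [Module B Y] (e : X ≃ₗ[B] Y) :
    Module.length (Localization.AtPrime q) (LocalizedModule q.primeCompl X) =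
      Module.length (Localization.AtPrime q) (LocalizedModule q.primeCompl Y) :=
  (LinearEquiv.ofBijective (LocalizedModule.map q.primeCompl e.toLinearMap)
    ⟨LocalizedModule.map_injective q.primeCompl _ e.injective,
      LocalizedModule.map_surjective q.primeCompl _ e.surjective⟩).length_eq

theorem length_localized_exact (q : Ideal B) [q.IsPrime] {X Y Z : Type u} [AddCommGroup X] [Module B X]
    [AddCommGroup Y] [Module B Y] [AddCommGroup Z] [Module B Z] {f : X →ₗ[B] Y} {g : Y →ₗ[B] Z}
    (hf : Function.Injective f) (hg : Function.Surjective g) (h : Function.Exact f g) :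
    Module.length (Localization.AtPrime q) (LocalizedModule q.primeCompl Y) =
      Module.length (Localization.AtPrime q) (LocalizedModule q.primeCompl X) +
        Module.length (Localization.AtPrime q) (LocalizedModule q.primeCompl Z) :=
  Module.length_eq_add_of_exact _ _ (LocalizedModule.map_injective q.primeCompl f hf)
    (LocalizedModule.map_surjective q.primeCompl g hg) (LocalizedModule.map_exact q.primeCompl f g h)

/-- The order at a maximal ideal is the localised length of `B / x B`. -/
theorem ord_atPrime (q : Ideal B) [q.IsPrime] (x : B) :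
    Module.length (Localization.AtPrime q) (LocalizedModule q.primeCompl (B ⧸ Ideal.span {x})) =
      Ring.ord (Localization.AtPrime q) (algebraMap B _ x) := by
  let R := Localization.AtPrime q
  let g : R →ₗ[R] LocalizedModule q.primeCompl (B ⧸ Ideal.span {x}) :=
    LinearMap.toSpanSingleton R (LocalizedModule q.primeCompl (B ⧸ Ideal.span {x}))
      (LocalizedModule.mk (Ideal.Quotient.mk (Ideal.span {x}) 1) 1)
  have hg : ∀ (a : B) (s : q.primeCompl),
      g (Localization.mk a s) = LocalizedModule.mk (Ideal.Quotient.mk (Ideal.span {x}) a) s := fun a s => by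
    show Localization.mk a s • (LocalizedModule.mk (Ideal.Quotient.mk (Ideal.span {x}) 1) 1 :
      LocalizedModule q.primeCompl (B ⧸ Ideal.span {x})) = _
    rw [LocalizedModule.mk_smul_mk, mul_one]
    congr 1
    rw [Algebra.smul_def, Ideal.Quotient.algebraMap_eq, map_one, mul_one]
  have hsurj : Function.Surjective g := fun z => by
    induction z using LocalizedModule.induction_on with
    | _ m s =>
      obtain ⟨a, rfl⟩ := Ideal.Quotient.mk_surjective m
      exact ⟨Localization.mk a s, hg a s⟩
  have hker : LinearMap.ker g = Ideal.span {algebraMap B R x} := by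
    refine le_antisymm (fun z hz => ?_) ((Ideal.span_singleton_le_iff_mem _).mpr (LinearMap.mem_ker.mpr ?_))
    · induction z using Localization.induction_on with
      | H p =>
        obtain ⟨a, s⟩ := p
        rw [LinearMap.mem_ker, hg, ← LocalizedModule.zero_mk s, LocalizedModule.mk_eq] at hz
        obtain ⟨v, hv⟩ := hz
        simp only [smul_zero] at hv
        rw [Submonoid.smul_def, Submonoid.smul_def, Algebra.smul_def, Algebra.smul_def,
          Ideal.Quotient.algebraMap_eq, ← map_mul, ← map_mul, Ideal.Quotient.eq_zero_iff_mem,
          Ideal.mem_span_singleton'] at hv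
        obtain ⟨w, hw⟩ := hv
        refine Ideal.mem_span_singleton'.mpr ⟨Localization.mk w (v * s * s), ?_⟩
        rw [show algebraMap B R x = Localization.mk x 1 from (Localization.mk_one_eq_algebraMap x).symm,
          Localization.mk_mul, mul_one, Localization.mk_eq_mk_iff, Localization.r_iff_exists]
        exact ⟨1, by simp only [Submonoid.coe_mul, Submonoid.coe_one, one_mul, hw]; ring⟩
    · rw [show algebraMap B R x = Localization.mk x 1 from (Localization.mk_one_eq_algebraMap x).symm, hg,
        Ideal.Quotient.eq_zero_iff_mem.mpr (Ideal.mem_span_singleton_self x), LocalizedModule.zero_mk]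
  rw [Ring.ord]
  exact (((Submodule.quotEquivOfEq _ _ hker.symm).trans (g.quotKerEquivOfSurjective hsurj)).length_eq).symm

variable {A : Type u} [CommRing A] [IsLocalRing A] [Algebra A B]

/-- The residue degree at a maximal ideal. -/
noncomputable def deg (A : Type u) [CommRing A] [IsLocalRing A] {B : Type u} [CommRing B] [Algebra A B]
    [Module.Finite A B] (q : MaximalSpectrum B) : ℕ :=
  haveI := isLocalHom_atPrime (A := A) q.asIdeal
  Module.finrank (ResidueField A) (ResidueField (Localization.AtPrime q.asIdeal))

variable [Module.Finite A B]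

theorem finite_residueField (q : MaximalSpectrum B) :
    haveI := isLocalHom_atPrime (A := A) q.asIdeal
    Module.Finite (ResidueField A) (ResidueField (Localization.AtPrime q.asIdeal)) := by
  haveI := isLocalHom_atPrime (A := A) q.asIdeal
  let f : B →ₐ[A] ResidueField (Localization.AtPrime q.asIdeal) := IsScalarTower.toAlgHom A B _
  have hf : Function.Surjective f := by
    intro z
    obtain ⟨z, rfl⟩ := residue_surjective z
    obtain ⟨⟨a, s⟩, h⟩ := IsLocalization.surj q.asIdeal.primeCompl z
    have hs : Ideal.Quotient.mk q.asIdeal (s : B) ≠ 0 := mt Ideal.Quotient.eq_zero_iff_mem.mp s.2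
    let _ : Field (B ⧸ q.asIdeal) := Ideal.Quotient.field q.asIdeal
    obtain ⟨t, ht⟩ := Ideal.Quotient.mk_surjective ((Ideal.Quotient.mk q.asIdeal (s : B))⁻¹)
    have h1 : (s : B) * t - 1 ∈ q.asIdeal := by
      rw [← Ideal.Quotient.eq_zero_iff_mem, map_sub, map_mul, ht, mul_inv_cancel₀ hs, map_one, sub_self]
    refine ⟨a * t, ?_⟩
    show residue _ (algebraMap B (Localization.AtPrime q.asIdeal) (a * t)) = residue _ z
    rw [← sub_eq_zero, ← map_sub, residue_eq_zero_iff]
    have e : algebraMap B (Localization.AtPrime q.asIdeal) (a * t) - z =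
        z * algebraMap B _ ((s : B) * t - 1) := by
      rw [map_sub, map_mul, map_mul, map_one, ← h]; ring
    rw [e]
    exact Ideal.mul_mem_left _ _ ((IsLocalization.AtPrime.to_map_mem_maximal_iff _ q.asIdeal _).mpr h1)
  have : Module.Finite A (ResidueField (Localization.AtPrime q.asIdeal)) :=
    Module.Finite.of_surjective f.toLinearMap hf
  exact Module.Finite.of_restrictScalars_finite A _ _

theorem deg_pos (q : MaximalSpectrum B) : 0 < deg A q := by
  haveI := isLocalHom_atPrime (A := A) q.asIdeal
  haveI := finite_residueField (A := A) q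
  exact Module.finrank_pos

theorem length_residue (q : MaximalSpectrum B) : Module.length A (B ⧸ q.asIdeal) = deg A q := by
  haveI := isLocalHom_atPrime (A := A) q.asIdeal
  haveI := finite_residueField (A := A) q
  let R := Localization.AtPrime q.asIdeal
  let f : B →ₐ[A] ResidueField R := IsScalarTower.toAlgHom A B _
  have hker : RingHom.ker f = q.asIdeal := by
    ext b
    show residue R (algebraMap B R b) = 0 ↔ _
    rw [residue_eq_zero_iff]
    exact IsLocalization.AtPrime.to_map_mem_maximal_iff R q.asIdeal b
  have hsurj : Function.Surjective f := by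
    intro z
    obtain ⟨z, rfl⟩ := residue_surjective z
    obtain ⟨⟨a, s⟩, h⟩ := IsLocalization.surj q.asIdeal.primeCompl z
    let _ : Field (B ⧸ q.asIdeal) := Ideal.Quotient.field q.asIdeal
    obtain ⟨t, ht⟩ := Ideal.Quotient.mk_surjective ((Ideal.Quotient.mk q.asIdeal (s : B))⁻¹)
    have hs : Ideal.Quotient.mk q.asIdeal (s : B) ≠ 0 := mt Ideal.Quotient.eq_zero_iff_mem.mp s.2
    have h1 : (s : B) * t - 1 ∈ q.asIdeal := by
      rw [← Ideal.Quotient.eq_zero_iff_mem, map_sub, map_mul, ht, mul_inv_cancel₀ hs, map_one, sub_self]
    refine ⟨a * t, ?_⟩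
    show residue _ (algebraMap B R (a * t)) = residue _ z
    rw [← sub_eq_zero, ← map_sub, residue_eq_zero_iff]
    have e : algebraMap B R (a * t) - z = z * algebraMap B _ ((s : B) * t - 1) := by
      rw [map_sub, map_mul, map_mul, map_one, ← h]; ring
    rw [e]
    exact Ideal.mul_mem_left _ _ ((IsLocalization.AtPrime.to_map_mem_maximal_iff _ q.asIdeal _).mpr h1)
  rw [((Ideal.quotientEquivAlgOfEq A hker.symm).trans
      (Ideal.quotientKerAlgEquivOfSurjective hsurj)).toLinearEquiv.length_eq,
    Module.length_eq_of_surjective (S := A) (R := ResidueField A) residue_surjective, deg,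
    Module.length_eq_finrank]

open Classical in
/-- Length over the base of a finite length module over the extension. -/
theorem length_eq_sum [Fintype (MaximalSpectrum B)] (X : Type u) [AddCommGroup X] [Module B X] [Module A X]
    [IsScalarTower A B X] (hX : IsFiniteLength B X) :
    Module.length A X = ∑ q : MaximalSpectrum B, (deg A q : ℕ∞) *
      Module.length (Localization.AtPrime q.asIdeal) (LocalizedModule q.asIdeal.primeCompl X) := by
  rename_i instA instT
  revert instA instT
  induction hX with
  | @of_subsingleton M _ _ _ =>
    intro _ _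
    have : ∀ q : MaximalSpectrum B, Subsingleton (LocalizedModule q.asIdeal.primeCompl M) := fun q =>
      subsingleton_of_forall_eq 0 fun z => by
        induction z using LocalizedModule.induction_on with
        | _ x s => rw [Subsingleton.elim x 0, LocalizedModule.zero_mk]
    simp [Module.length_eq_zero]
  | @of_simple_quotient M _ _ N hs _ ih =>
    intro _ _
    obtain ⟨m, hm, ⟨e⟩⟩ := isSimpleModule_iff_quot_maximal.mp hs
    rw [Module.length_eq_add_of_exact (N.subtype.restrictScalars A) (N.mkQ.restrictScalars A)
      (Submodule.injective_subtype N) (Submodule.mkQ_surjective N) (LinearMap.exact_subtype_mkQ N), ih]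
    simp only [fun q : MaximalSpectrum B => length_localized_exact q.asIdeal (Submodule.injective_subtype N)
      (Submodule.mkQ_surjective N) (LinearMap.exact_subtype_mkQ N), mul_add, Finset.sum_add_distrib]
    congr 1
    rw [(e.restrictScalars A).length_eq, length_residue ⟨m, hm⟩, Finset.sum_eq_single ⟨m, hm⟩]
    · rw [length_localized_congr m e, length_localized_simple m, mul_one]
    · intro q _ hq
      rw [length_localized_congr q.asIdeal e, length_localized_ne q.asIdeal m fun h =>
        hq (MaximalSpectrum.ext (hm.eq_of_le q.isMaximal.ne_top h).symm), mul_zero]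
    · exact fun h => absurd (Finset.mem_univ _) h

variable [IsNoetherianRing A] [Ring.KrullDimLE 1 A]

/-- The weight is the sum of the orders times the residue degrees. -/
theorem wt_eq_sum [Fintype (MaximalSpectrum B)] {x : B} (hx : x ∈ nonZeroDivisors B) :
    wt A x = ∑ q : MaximalSpectrum B, (deg A q : ℕ∞) *
      Ring.ord (Localization.AtPrime q.asIdeal) (algebraMap B _ x) := by
  have : IsNoetherianRing B := IsNoetherianRing.of_finite A B
  have : Ring.KrullDimLE 1 B := krullDimLE_one (A := A)
  rw [wt, length_eq_sum (A := A) (B ⧸ Ideal.span {x}) (isFiniteLength_quotient_span_singleton B hx)]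
  simp_rw [ord_atPrime]

end Groth.Agent.TameLib
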