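import Groth.Agent.TameLib.Decomp
import Groth.Agent.TameLib.Push
import Groth.Agent.CycLib.Det
import Mathlib.LinearAlgebra.Determinant
import Mathlib.RingTheory.Norm.Basic

/-! Localised lengths and determinants for algebras finite over a local ring. -/

set_option linter.unusedSectionVars false
set_option linter.style.haveILetI false

namespace Groth.Agent.TameLib

open IsLocalRing

universe u

variable {C : Type u} [CommRing C]

/-- The localised length of a quotient is the length of the quotient of the local ring. -/
theorem length_localized_quot (q : Ideal C) [q.IsPrime] (K : Ideal C) :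
    Module.length (Localization.AtPrime q) (LocalizedModule q.primeCompl (C ⧸ K)) =
      Module.length (Localization.AtPrime q) (Localization.AtPrime q ⧸ K.map (algebraMap C (Localization.AtPrime q))) := by
  let R := Localization.AtPrime q
  let g : R →ₗ[R] LocalizedModule q.primeCompl (C ⧸ K) :=
    LinearMap.toSpanSingleton R (LocalizedModule q.primeCompl (C ⧸ K)) (LocalizedModule.mk (Ideal.Quotient.mk K 1) 1)
  have hg : ∀ (a : C) (s : q.primeCompl),
      g (Localization.mk a s) = LocalizedModule.mk (Ideal.Quotient.mk K a) s := fun a s => by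
    show Localization.mk a s • (LocalizedModule.mk (Ideal.Quotient.mk K 1) 1 : LocalizedModule q.primeCompl (C ⧸ K)) = _
    rw [LocalizedModule.mk_smul_mk, mul_one]
    congr 1
    rw [Algebra.smul_def, Ideal.Quotient.algebraMap_eq, map_one, mul_one]
  have hsurj : Function.Surjective g := fun z => by
    induction z using LocalizedModule.induction_on with
    | _ m s =>
      obtain ⟨a, rfl⟩ := Ideal.Quotient.mk_surjective m
      exact ⟨Localization.mk a s, hg a s⟩
  have hker : LinearMap.ker g = K.map (algebraMap C R) := by
    ext z
    induction z using Localization.induction_on with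
    | H p =>
      obtain ⟨a, s⟩ := p
      rw [LinearMap.mem_ker, hg, Localization.mk_eq_mk', IsLocalization.mk'_mem_map_algebraMap_iff q.primeCompl,
        ← LocalizedModule.zero_mk s, LocalizedModule.mk_eq]
      simp only [smul_zero, Submonoid.smul_def, Algebra.smul_def, Ideal.Quotient.algebraMap_eq, ← map_mul,
        Ideal.Quotient.eq_zero_iff_mem]
      refine ⟨fun ⟨v, hv⟩ => ⟨(v : C) * (s : C), mul_mem v.2 s.2, by rwa [mul_assoc]⟩,
        fun ⟨v, hv, h⟩ => ⟨⟨v, hv⟩, ?_⟩⟩
      rw [mul_left_comm]
      exact K.mul_mem_left _ h
  exact (((Submodule.quotEquivOfEq _ _ hker.symm).trans (g.quotKerEquivOfSurjective hsurj)).length_eq).symm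

theorem length_localized_le_exact (q : Ideal C) [q.IsPrime] {X Y Z : Type u} [AddCommGroup X] [Module C X]
    [AddCommGroup Y] [Module C Y] [AddCommGroup Z] [Module C Z] {f : X →ₗ[C] Y} {g : Y →ₗ[C] Z}
    (hg : Function.Surjective g) (h : Function.Exact f g) :
    Module.length (Localization.AtPrime q) (LocalizedModule q.primeCompl Y) ≤
      Module.length (Localization.AtPrime q) (LocalizedModule q.primeCompl X) +
        Module.length (Localization.AtPrime q) (LocalizedModule q.primeCompl Z) := by
  have hexact : Function.Exact (LinearMap.range f).subtype g := fun y => by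
    rw [Submodule.coe_subtype, Subtype.range_coe]
    exact h y
  rw [length_localized_exact q (Submodule.injective_subtype _) hg hexact]
  gcongr
  exact Module.length_le_of_surjective _
    (LocalizedModule.map_surjective q.primeCompl f.rangeRestrict f.surjective_rangeRestrict)

section Base

variable {R : Type u} [CommRing R] [IsLocalRing R] [Algebra R C]

/-- The localised length of `C / (K + J C)` grows at most linearly in the colength of `J`. -/
theorem localized_length_le (r : Ideal C) [r.IsPrime] (K : Ideal C) : ∀ (n : ℕ) (J : Ideal R),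
    Module.length R (R ⧸ J) = n →
      Module.length (Localization.AtPrime r) (LocalizedModule r.primeCompl (C ⧸ K ⊔ J.map (algebraMap R C))) ≤
        n * Module.length (Localization.AtPrime r)
          (LocalizedModule r.primeCompl (C ⧸ K ⊔ (maximalIdeal R).map (algebraMap R C))) := by
  intro n
  induction n with
  | zero =>
    intro J hJ
    rw [Nat.cast_zero, Module.length_eq_zero_iff, Submodule.Quotient.subsingleton_iff] at hJ
    subst hJ
    rw [Ideal.map_top, sup_top_eq, length_localized_quot, Ideal.map_top]
    simp [Module.length_eq_zero]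
  | succ n ih =>
    intro J hJ
    obtain ⟨x, -, hm, hx⟩ := CycLib.exists_socle (R := R) (M := R ⧸ J) hJ
    obtain ⟨z, rfl⟩ := Ideal.Quotient.mk_surjective x
    have hm' : ∀ m ∈ maximalIdeal R, m * z ∈ J := fun m hm'' => by
      rw [← Ideal.Quotient.eq_zero_iff_mem, map_mul, ← hm m hm'', Algebra.smul_def]
      rfl
    let I := J ⊔ Ideal.span {z}
    have hI : Module.length R (R ⧸ I) = n := by
      rw [← hx]
      refine ((Submodule.quotientQuotientEquivQuotient J I le_sup_left).symm.trans
        (Submodule.quotEquivOfEq _ _ ?_)).length_eq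
      rw [Submodule.map_sup, ← Ideal.submodule_span_eq, Submodule.map_span, Set.image_singleton,
        Submodule.mkQ_map_self, bot_sup_eq]
      rfl
    have hKJ : K ⊔ J.map (algebraMap R C) ≤ K ⊔ I.map (algebraMap R C) :=
      sup_le_sup_left (Ideal.map_mono le_sup_left) K
    have hle : K ⊔ (maximalIdeal R).map (algebraMap R C) ≤
        Submodule.comap (LinearMap.mulLeft C (algebraMap R C z)) (K ⊔ J.map (algebraMap R C)) := by
      refine sup_le (fun k hk => ?_) (Ideal.map_le_iff_le_comap.mpr fun m hm'' => ?_)
      · exact Ideal.mem_sup_left (K.mul_mem_left _ hk)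
      · rw [Ideal.mem_comap, Submodule.mem_comap, LinearMap.mulLeft_apply]
        rw [← map_mul, mul_comm]
        exact Ideal.mem_sup_right (Ideal.mem_map_of_mem _ (hm' m hm''))
    let f := Submodule.mapQ _ _ (LinearMap.mulLeft C (algebraMap R C z)) hle
    have hex : Function.Exact f (Submodule.factor hKJ) := fun y => by
      obtain ⟨y, rfl⟩ := Submodule.mkQ_surjective _ y
      simp only [Submodule.mkQ_apply]
      erw [Submodule.mapQ_apply, Submodule.Quotient.mk_eq_zero]
      constructor
      · intro hy
        rw [show K ⊔ I.map (algebraMap R C) = (K ⊔ J.map (algebraMap R C)) ⊔ Ideal.span {algebraMap R C z} by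
          rw [Ideal.map_sup, Ideal.map_span, Set.image_singleton, sup_assoc]] at hy
        obtain ⟨a, ha, b, hb, rfl⟩ := Submodule.mem_sup.mp hy
        obtain ⟨c, rfl⟩ := Ideal.mem_span_singleton'.mp hb
        refine ⟨Submodule.Quotient.mk c, ?_⟩
        rw [Submodule.mapQ_apply, Submodule.Quotient.eq, LinearMap.mulLeft_apply]
        rw [show algebraMap R C z * c - (a + c * algebraMap R C z) = -a by ring]
        exact neg_mem ha
      · rintro ⟨c, hc⟩
        obtain ⟨c, rfl⟩ := Submodule.mkQ_surjective _ c
        rw [Submodule.mkQ_apply, Submodule.mapQ_apply, Submodule.Quotient.eq, LinearMap.mulLeft_apply] at hc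
        have h1 : algebraMap R C z * c ∈ K ⊔ I.map (algebraMap R C) := Ideal.mem_sup_right
          (Ideal.mul_mem_right _ _ (Ideal.mem_map_of_mem _ (Ideal.mem_sup_right (Ideal.mem_span_singleton_self z))))
        simpa using sub_mem h1 (hKJ hc)
    refine (length_localized_le_exact r (Submodule.factor_surjective hKJ) hex).trans ?_
    rw [Nat.cast_succ, add_mul, one_mul, add_comm]
    gcongr
    exact ih I hI

open Classical in
/-- A determinant over the residue field as a product of norms. -/
theorem det_eq_prod [Module.Finite R C] [Fintype (MaximalSpectrum C)] (b : C) {M : Type u} [AddCommGroup M]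
    [Module C M] (hM : IsFiniteLength C M) : ∀ [Module (ResidueField R) M] [Module.Finite (ResidueField R) M]
      (hcomp : ∀ (a : R) (x : M), residue R a • x = algebraMap R C a • x) (f : M →ₗ[ResidueField R] M),
      (∀ x, f x = b • x) →
      LinearMap.det f = ∏ r : MaximalSpectrum C,
        nrm R r (residue _ (algebraMap C (Localization.AtPrime r.asIdeal) b)) ^
          (Module.length (Localization.AtPrime r.asIdeal) (LocalizedModule r.asIdeal.primeCompl M)).toNat ∧
        ∀ r : MaximalSpectrum C,
          Module.length (Localization.AtPrime r.asIdeal) (LocalizedModule r.asIdeal.primeCompl M) ≠ ⊤ := by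
  induction hM with
  | @of_subsingleton M _ _ _ =>
    intro _ _ _ f _
    have : ∀ r : MaximalSpectrum C, Subsingleton (LocalizedModule r.asIdeal.primeCompl M) := fun r =>
      subsingleton_of_forall_eq 0 fun z => by
        induction z using LocalizedModule.induction_on with
        | _ x s => rw [Subsingleton.elim x 0, LocalizedModule.zero_mk]
    simp [Module.length_eq_zero, LinearMap.det_eq_one_of_subsingleton]
  | @of_simple_quotient M _ _ N hs _ ih =>
    intro _ _ hcomp f hf
    let W : Submodule (ResidueField R) M :=
      { carrier := N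
        add_mem' := N.add_mem
        zero_mem' := N.zero_mem
        smul_mem' := fun k x hx => by
          obtain ⟨a, rfl⟩ := residue_surjective k
          show residue R a • x ∈ N
          rw [hcomp]
          exact N.smul_mem _ hx }
    let _ : Module (ResidueField R) N := inferInstanceAs (Module (ResidueField R) W)
    haveI : Module.Finite (ResidueField R) N := inferInstanceAs (Module.Finite (ResidueField R) W)
    have hW : W ≤ W.comap f := fun x hx => by
      show f x ∈ N
      rw [hf]
      exact N.smul_mem _ hx
    let fN : N →ₗ[ResidueField R] N :=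
      { toFun := fun x => ⟨f x.1, hW x.2⟩
        map_add' := fun x y => Subtype.ext (map_add f x.1 y.1)
        map_smul' := fun k x => Subtype.ext (map_smul f k x.1) }
    obtain ⟨e1, e2⟩ := ih (fun a x => Subtype.ext (hcomp a x.1)) fN (fun x => Subtype.ext (hf x.1))
    obtain ⟨m, hm, ⟨e⟩⟩ := isSimpleModule_iff_quot_maximal.mp hs
    let r₀ : MaximalSpectrum C := ⟨m, hm⟩
    haveI := isLocalHom_atPrime (A := R) r₀.asIdeal
    let L := ResidueField (Localization.AtPrime r₀.asIdeal)
    let π : C →ₐ[R] L := IsScalarTower.toAlgHom R C L
    have hker : RingHom.ker π = m := by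
      ext c
      show residue _ (algebraMap C (Localization.AtPrime r₀.asIdeal) c) = 0 ↔ _
      rw [residue_eq_zero_iff]
      exact IsLocalization.AtPrime.to_map_mem_maximal_iff _ r₀.asIdeal c
    have hπ : Function.Surjective π := by
      intro z
      obtain ⟨z, rfl⟩ := residue_surjective z
      obtain ⟨⟨a, s⟩, h⟩ := IsLocalization.surj r₀.asIdeal.primeCompl z
      let _ : Field (C ⧸ m) := Ideal.Quotient.field m
      obtain ⟨t, ht⟩ := Ideal.Quotient.mk_surjective ((Ideal.Quotient.mk m (s : C))⁻¹)
      have hs0 : Ideal.Quotient.mk m (s : C) ≠ 0 := mt Ideal.Quotient.eq_zero_iff_mem.mp s.2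
      have h1 : π ((s : C) * t) = 1 := by
        rw [← map_one π, ← sub_eq_zero, ← map_sub, ← RingHom.mem_ker, hker, ← Ideal.Quotient.eq_zero_iff_mem,
          map_sub, map_mul, ht, mul_inv_cancel₀ hs0, map_one, sub_self]
      refine ⟨a * t, ?_⟩
      calc π (a * t) = residue _ (z * algebraMap C _ (s : C) * algebraMap C _ t) := by
              rw [h, ← map_mul]; rfl
        _ = residue _ z * π ((s : C) * t) := by rw [mul_assoc, map_mul, ← map_mul (algebraMap C _)]; rfl
        _ = _ := by rw [h1, mul_one]
    let π' : (C ⧸ m) →ₗ[C] L := Submodule.liftQ m (Algebra.linearMap C L) hker.ge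
    let ψ : M →ₗ[C] L := π'.comp (e.toLinearMap.comp N.mkQ)
    have hψ : Function.Surjective ψ := by
      intro z
      obtain ⟨c, rfl⟩ := hπ z
      obtain ⟨x, hx⟩ := (e.surjective.comp N.mkQ_surjective) (Ideal.Quotient.mk m c)
      exact ⟨x, (congrArg π' hx).trans rfl⟩
    have hψker : LinearMap.ker ψ = N := by
      have hinj : Function.Injective π' := LinearMap.ker_eq_bot.mp
        (Submodule.ker_liftQ_eq_bot _ _ _ hker.le)
      rw [LinearMap.ker_comp_of_ker_eq_bot _ (LinearMap.ker_eq_bot.mpr hinj),
        LinearEquiv.ker_comp, Submodule.ker_mkQ]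
    let φ : M →ₗ[ResidueField R] L :=
      { toFun := ψ
        map_add' := ψ.map_add
        map_smul' := fun k x => by
          obtain ⟨a, rfl⟩ := residue_surjective k
          rw [hcomp, map_smul, Algebra.smul_def, Algebra.smul_def, ← IsScalarTower.algebraMap_apply]
          rfl }
    have hφ : LinearMap.ker φ = W := by
      ext x
      exact (SetLike.ext_iff.mp hψker x)
    let σ := (Submodule.quotEquivOfEq W _ hφ.symm).trans (φ.quotKerEquivOfSurjective hψ)
    have hσ : ∀ x, σ (Submodule.Quotient.mk x) = ψ x := fun x => rfl
    have hdet : LinearMap.det (W.mapQ W f hW) = nrm R r₀ (residue _ (algebraMap C _ b)) := by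
      rw [← LinearMap.det_conj (W.mapQ W f hW) σ]
      show _ = Algebra.norm (ResidueField R) (residue _ (algebraMap C _ b))
      rw [Algebra.norm_apply]
      congr 1
      refine LinearMap.ext fun z => ?_
      obtain ⟨w, rfl⟩ := σ.surjective z
      obtain ⟨x, rfl⟩ := Submodule.mkQ_surjective W w
      rw [LinearMap.comp_apply, LinearMap.comp_apply, LinearEquiv.coe_coe, LinearEquiv.coe_coe,
        LinearEquiv.symm_apply_apply, Submodule.mkQ_apply, Submodule.mapQ_apply, hσ, hσ, hf, map_smul,
        Algebra.smul_def]
      rfl
    have hlen : ∀ r : MaximalSpectrum C,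
        Module.length (Localization.AtPrime r.asIdeal) (LocalizedModule r.asIdeal.primeCompl M) =
          Module.length (Localization.AtPrime r.asIdeal) (LocalizedModule r.asIdeal.primeCompl N) +
            if r = r₀ then 1 else 0 := fun r => by
      rw [length_localized_exact r.asIdeal (Submodule.injective_subtype N) (Submodule.mkQ_surjective N)
        (LinearMap.exact_subtype_mkQ N), length_localized_congr r.asIdeal e]
      congr 1
      split_ifs with h
      · subst h
        exact length_localized_simple m
      · exact length_localized_ne r.asIdeal m fun h' =>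
          h (MaximalSpectrum.ext (hm.eq_of_le r.isMaximal.ne_top h').symm)
    refine ⟨?_, fun r => by
      rw [hlen r]
      split_ifs <;> simp [e2 r]⟩
    have e1' : LinearMap.det (f.restrict hW) = _ := e1
    rw [LinearMap.det_eq_det_mul_det W f hW, e1', hdet]
    have hpow : ∀ r : MaximalSpectrum C, (Module.length (Localization.AtPrime r.asIdeal)
        (LocalizedModule r.asIdeal.primeCompl M)).toNat = (Module.length (Localization.AtPrime r.asIdeal)
        (LocalizedModule r.asIdeal.primeCompl N)).toNat + if r = r₀ then 1 else 0 := fun r => by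
      rw [hlen r, ENat.toNat_add (e2 r) (by split_ifs <;> simp)]
      congr 1
      split_ifs <;> simp
    simp_rw [hpow, pow_add, Finset.prod_mul_distrib, pow_ite, pow_one, pow_zero,
      Finset.prod_ite_eq' Finset.univ r₀, if_pos (Finset.mem_univ r₀)]

end Base

end Groth.Agent.TameLib
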