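import Mathlib.RingTheory.Artinian.Algebra
import Mathlib.RingTheory.Ideal.GoingUp
import Mathlib.RingTheory.KrullDimension.Zero
import Mathlib.RingTheory.KrullDimension.Basic
import Mathlib.RingTheory.LocalRing.ResidueField.Basic
import Mathlib.RingTheory.Finiteness.Basic
import Mathlib.RingTheory.OrderOfVanishing.Basic
import Mathlib.RingTheory.Spectrum.Maximal.Basic
import Mathlib.Tactic

/-! Finite algebras over a local ring. -/

namespace Groth.Agent.TameLib

open IsLocalRing

universe u v

variable {A : Type u} [CommRing A] [IsLocalRing A] {B : Type v} [CommRing B] [Algebra A B] [Module.Finite A B]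

theorem under_eq_maximal (q : Ideal B) [q.IsMaximal] :
    q.comap (algebraMap A B) = maximalIdeal A := by
  have : Algebra.IsIntegral A B := Algebra.IsIntegral.of_finite A B
  exact IsLocalRing.eq_maximalIdeal (Ideal.isMaximal_comap_of_isIntegral_of_isMaximal q)

theorem map_max_le (q : Ideal B) [q.IsMaximal] :
    (maximalIdeal A).map (algebraMap A B) ≤ q := by
  rw [Ideal.map_le_iff_le_comap, under_eq_maximal q]

/-- A finite algebra over a local ring is semilocal. -/
theorem finite_maximalSpectrum (A : Type u) [CommRing A] [IsLocalRing A] (B : Type v) [CommRing B] [Algebra A B]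
    [Module.Finite A B] : Finite (MaximalSpectrum B) := by
  let J := (maximalIdeal A).map (algebraMap A B)
  let k := A ⧸ maximalIdeal A
  have : IsArtinianRing (B ⧸ J) := by
    let φ : k →+* B ⧸ J := Ideal.Quotient.lift _ ((Ideal.Quotient.mk J).comp (algebraMap A B)) fun a ha =>
      Ideal.Quotient.eq_zero_iff_mem.mpr (Ideal.mem_map_of_mem _ ha)
    let _ : Algebra k (B ⧸ J) := φ.toAlgebra
    have : IsScalarTower A k (B ⧸ J) := IsScalarTower.of_algebraMap_eq fun _ => rfl
    have : Module.Finite A (B ⧸ J) := Module.Finite.of_surjective (Ideal.Quotient.mkₐ A J).toLinearMap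
      Ideal.Quotient.mk_surjective
    have : Module.Finite k (B ⧸ J) := Module.Finite.of_restrictScalars_finite A k _
    let _ : Field k := Ideal.Quotient.field _
    exact IsArtinianRing.of_finite k (B ⧸ J)
  let g := Ideal.Quotient.mk J
  have hc : ∀ q : MaximalSpectrum B, (q.asIdeal.map g).comap g = q.asIdeal := fun q => by
    have := q.isMaximal
    rw [Ideal.comap_map_of_surjective g Ideal.Quotient.mk_surjective,
      sup_eq_left.2 (by rw [← RingHom.ker_eq_comap_bot, Ideal.mk_ker]; exact map_max_le (A := A) q.asIdeal)]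
  refine Finite.of_injective (fun q => (⟨q.asIdeal.map g, ?_⟩ : MaximalSpectrum (B ⧸ J))) fun q q' h => ?_
  · refine (Ideal.map_eq_top_or_isMaximal_of_surjective g Ideal.Quotient.mk_surjective q.isMaximal).resolve_left
      fun h => q.isMaximal.ne_top ?_
    rw [← hc q, h, Ideal.comap_top]
  · ext1
    rw [← hc q, ← hc q', show q.asIdeal.map g = q'.asIdeal.map g from congrArg MaximalSpectrum.asIdeal h]

omit [IsLocalRing A] in
theorem krullDimLE_one [Ring.KrullDimLE 1 A] : Ring.KrullDimLE 1 B := by
  have : Algebra.IsIntegral A B := Algebra.IsIntegral.of_finite A B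
  rw [Ring.KrullDimLE, Order.krullDimLE_iff]
  exact (Order.krullDim_le_of_strictMono (PrimeSpectrum.comap (algebraMap A B))
    fun I _ h => Ideal.IsIntegral.comap_lt_comap (I := I.asIdeal) h).trans
    (Order.KrullDimLE.krullDim_le (n := 1) (α := PrimeSpectrum A))

omit [IsLocalRing A] [Module.Finite A B] in
/-- Regular elements of `B` of finite colength. -/
theorem length_span_singleton_ne_top [IsNoetherianRing B] [Ring.KrullDimLE 1 B] {x : B}
    (hx : x ∈ nonZeroDivisors B) : Module.length B (B ⧸ Ideal.span {x}) ≠ ⊤ :=
  Module.length_ne_top_iff.mpr (isFiniteLength_quotient_span_singleton B hx)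

theorem isLocalHom_atPrime (q : Ideal B) [q.IsMaximal] :
    IsLocalHom (algebraMap A (Localization.AtPrime q)) := by
  refine ⟨fun a ha => ?_⟩
  by_contra h
  have haq : algebraMap A B a ∈ q := map_max_le q (Ideal.mem_map_of_mem _ ((mem_maximalIdeal a).mpr h))
  rw [IsScalarTower.algebraMap_apply A B (Localization.AtPrime q)] at ha
  exact (IsLocalization.AtPrime.isUnit_to_map_iff (Localization.AtPrime q) q _).mp ha haq

end Groth.Agent.TameLib
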